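import Groth.Agent.Const38.HomDS.Weights
import Groth.Agent.RedPts82.HopfCoord
import Groth.Agent.RedPts82.AvgLift
import Groth.Prelude.Def_AutFam

/-!
Families of homomorphisms from a diagonalisable group over affine parameters, in coordinates.
-/

set_option autoImplicit false
set_option backward.isDefEq.respectTransparency false
set_option backward.isDefEq.respectTransparency.types false
set_option linter.style.haveILetI false
set_option linter.unusedSectionVars false
set_option maxSynthPendingDepth 5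
universe u

open CategoryTheory MonoidalCategory CartesianMonoidalCategory MonObj GrpObj AlgebraicGeometry
open CategoryTheory.Limits
open TensorProduct WithConv

noncomputable section

namespace Groth.Agent.Const38.HomDS

open RedPts82

variable {k : Type u} [CommRing k]

theorem ptMap_injective {B B' : Type u} [CommRing B] [Algebra k B] [CommRing B'] [Algebra k B'] :
    Function.Injective (VecGrp.ptMap : (B →ₐ[k] B') → (VecGrp.pt k B' ⟶ VecGrp.pt k B)) := fun φ ψ h => by
  have h1 : Spec.map (CommRingCat.ofHom φ.toRingHom) = Spec.map (CommRingCat.ofHom ψ.toRingHom) :=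
    congrArg (fun m : VecGrp.pt k B' ⟶ VecGrp.pt k B => m.left) h
  exact AlgHom.coe_ringHom_injective (congrArg CommRingCat.Hom.hom (Spec.map_injective h1))

theorem ptMap_surjective {B B' : Type u} [CommRing B] [Algebra k B] [CommRing B'] [Algebra k B']
    (x : VecGrp.pt k B' ⟶ VecGrp.pt k B) : ∃ φ : B →ₐ[k] B', VecGrp.ptMap φ = x := by
  let g : B →+* B' := (Spec.preimage x.left).hom
  have hg : Spec.map (CommRingCat.ofHom g) = x.left := Spec.map_preimage _
  have h : Spec.map (CommRingCat.ofHom g) ≫ Spec.map (CommRingCat.ofHom (algebraMap k B)) =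
      Spec.map (CommRingCat.ofHom (algebraMap k B')) := by rw [hg]; exact Over.w x
  rw [← Spec.map_comp] at h
  have h' := congrArg CommRingCat.Hom.hom (Spec.map_injective h)
  exact ⟨{ toRingHom := g, commutes' := fun r => DFunLike.congr_fun h' r }, Over.OverMorphism.ext hg⟩

theorem ptMap_comp {B B' B'' : Type u} [CommRing B] [Algebra k B] [CommRing B'] [Algebra k B'] [CommRing B'']
    [Algebra k B''] (φ : B →ₐ[k] B') (ψ : B' →ₐ[k] B'') :
    VecGrp.ptMap (ψ.comp φ) = VecGrp.ptMap ψ ≫ VecGrp.ptMap φ := by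
  apply Over.OverMorphism.ext
  show Spec.map _ = Spec.map _ ≫ Spec.map _
  rw [← Spec.map_comp]; rfl

theorem ptMap_id (B : Type u) [CommRing B] [Algebra k B] : VecGrp.ptMap (AlgHom.id k B) = 𝟙 _ := by
  apply Over.OverMorphism.ext
  show Spec.map _ = 𝟙 _
  exact Spec.map_id _

theorem exists_pt_iso (Z : Over (Spec (CommRingCat.of k))) [IsAffine Z.left] :
    ∃ (D : Type u) (_ : CommRing D) (_ : Algebra k D), Nonempty (VecGrp.pt k D ≅ Z) := by
  let f : k →+* Γ(Z.left, ⊤) := (Spec.preimage (Z.left.isoSpec.inv ≫ Z.hom)).hom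
  letI := f.toAlgebra
  refine ⟨Γ(Z.left, ⊤), inferInstance, inferInstance, ⟨Over.isoMk Z.left.isoSpec.symm ?_⟩⟩
  show Z.left.isoSpec.inv ≫ Z.hom = Spec.map (CommRingCat.ofHom f)
  exact (Spec.map_preimage (Z.left.isoSpec.inv ≫ Z.hom)).symm

variable {G : Type} [CommGroup G] {H : Over (Spec (CommRingCat.of k))} [GrpObj H]
  (ψD : Hopf.sp k (MonoidAlgebra k G) ≅ H) [IsMonHom ψD.hom]

variable (k G) in
/-- The tautological point of the group algebra. -/
def incG (B : Type u) [CommRing B] [Algebra k B] : MonoidAlgebra k G →ₐ[k] MA B G :=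
  MonoidAlgebra.mapAlgHom G (Algebra.ofId k B)

theorem incG_single (B : Type u) [CommRing B] [Algebra k B] (g : G) :
    incG k G B (MonoidAlgebra.single g 1) = MonoidAlgebra.single g 1 := by
  simp [incG]

/-- The coordinate chart of the product of the group with an affine parameter. -/
def q (B : Type u) [CommRing B] [Algebra k B] : VecGrp.pt k (MA B G) ⟶ H ⊗ VecGrp.pt k B :=
  lift (Hopf.e ψD (MA B G) (toConv (incG k G B)))
    (VecGrp.ptMap (MonoidAlgebra.singleOneAlgHom : B →ₐ[k] MA B G))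

theorem isAffineHom_of_coord (ψ : Hopf.sp k (MonoidAlgebra k G) ≅ H) : IsAffineHom H.hom := by
  haveI : IsAffine ((Over.forget (Spec (CommRingCat.of k))).obj (Hopf.sp k (MonoidAlgebra k G))) :=
    inferInstanceAs (IsAffine (Spec (CommRingCat.of (MonoidAlgebra k G))))
  haveI : IsAffine H.left := IsAffine.of_isIso ((Over.forget _).mapIso ψ).inv
  infer_instance

instance isIso_q (B : Type u) [CommRing B] [Algebra k B] : IsIso (q ψD B) := by
  haveI := isAffineHom_of_coord ψD
  haveI : IsAffine H.left := isAffine_of_isAffineHom H.hom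
  haveI : IsAffine (VecGrp.pt k B).left := inferInstanceAs (IsAffine (Spec (CommRingCat.of B)))
  haveI : IsAffine (H ⊗ VecGrp.pt k B).left := tensor_isAffine H (VecGrp.pt k B)
  obtain ⟨D, _, _, ⟨w⟩⟩ := exists_pt_iso (H ⊗ VecGrp.pt k B)
  let a := ((Hopf.e ψD D).symm (w.hom ≫ fst _ _)).ofConv
  have ha : Hopf.e ψD D (toConv a) = w.hom ≫ fst _ _ := (Hopf.e ψD D).apply_symm_apply _
  obtain ⟨t, ht⟩ := ptMap_surjective (w.hom ≫ snd _ _)
  let χ : MA B G →ₐ[k] D := MonoidAlgebra.liftNCAlgHom t
    ((a : MonoidAlgebra k G →* D).comp (MonoidAlgebra.of k G)) (fun _ _ => Commute.all _ _)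
  have hχG : χ.comp (incG k G B) = a := MonoidAlgebra.algHom_ext' (MonoidHom.ext fun g => by
    simp [χ, incG]) (by ext)
  have hχB : χ.comp MonoidAlgebra.singleOneAlgHom = t := AlgHom.ext fun r => by
    simp [χ, ← MonoidAlgebra.one_def]
  have h1 : (w.inv ≫ VecGrp.ptMap χ) ≫ q ψD B = 𝟙 _ := by
    rw [← cancel_epi w.hom, Category.comp_id, ← Category.assoc, Iso.hom_inv_id_assoc, q, comp_lift,
      Hopf.e_natural, ← ptMap_comp, hχG, hχB, ha, ht]
    exact lift_comp_fst_snd _
  obtain ⟨s, hs⟩ := ptMap_surjective (q ψD B ≫ w.inv)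
  have hq : q ψD B = VecGrp.ptMap s ≫ w.hom := by rw [hs, Category.assoc, Iso.inv_hom_id, Category.comp_id]
  have hsa : s.comp a = incG k G B := by
    have h := congrArg (· ≫ fst H (VecGrp.pt k B)) hq
    simp only [q, lift_fst, Category.assoc, ← ha, Hopf.e_natural] at h
    exact congrArg WithConv.ofConv ((Hopf.e ψD (MA B G)).injective h).symm
  have hst : s.comp t = MonoidAlgebra.singleOneAlgHom := by
    have h := congrArg (· ≫ snd H (VecGrp.pt k B)) hq
    simp only [q, lift_snd, Category.assoc, ← ht, ← ptMap_comp] at h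
    exact (ptMap_injective h).symm
  have h2 : q ψD B ≫ w.inv ≫ VecGrp.ptMap χ = 𝟙 _ := by
    rw [← Category.assoc, ← hs, ← ptMap_comp, ← ptMap_id]
    congr 1
    refine AlgHom.ext fun x => ?_
    induction x using MonoidAlgebra.induction_linear with
    | zero => simp
    | add x y hx hy => simp only [map_add, hx, hy]
    | single g r =>
      have e1 := AlgHom.congr_fun hsa (MonoidAlgebra.single g 1)
      have e2 := AlgHom.congr_fun hst r
      simp only [AlgHom.comp_apply, incG_single] at e1 e2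
      show s (χ (MonoidAlgebra.single g r)) = MonoidAlgebra.single g r
      rw [show MonoidAlgebra.single g r = MonoidAlgebra.single (1 : G) r * MonoidAlgebra.single g 1 by simp,
        map_mul, map_mul]
      congr 1
      · rw [show MonoidAlgebra.single (1 : G) r = MonoidAlgebra.singleOneAlgHom (R := k) r from rfl,
          ← AlgHom.comp_apply χ, hχB]
        exact e2
      · rw [← incG_single (k := k) B g, ← AlgHom.comp_apply χ, hχG, incG_single]
        exact e1
  exact ⟨w.inv ≫ VecGrp.ptMap χ, h2, h1⟩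

variable {C : Type u} [CommRing C] [HopfAlgebra k C] {Q : Over (Spec (CommRingCat.of k))} [GrpObj Q]
  (ψ : Hopf.sp k C ≅ Q) [IsMonHom ψ.hom]
variable {B B' : Type u} [CommRing B] [Algebra k B] [CommRing B'] [Algebra k B']

/-- A family over an affine parameter, in coordinates. -/
def algOf (f : H ⊗ VecGrp.pt k B ⟶ Q) : C →ₐ[k] MA B G := ((Hopf.e ψ (MA B G)).symm (q ψD B ≫ f)).ofConv

theorem q_algOf (f : H ⊗ VecGrp.pt k B ⟶ Q) :
    Hopf.e ψ (MA B G) (toConv (algOf ψD ψ f)) = q ψD B ≫ f := (Hopf.e ψ _).apply_symm_apply _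

theorem algOf_injective : Function.Injective (algOf ψD ψ (B := B)) := fun f g h => by
  rw [← cancel_epi (q ψD B), ← q_algOf ψD ψ, ← q_algOf ψD ψ, h]

theorem algOf_surjective (φ : C →ₐ[k] MA B G) :
    ∃ f : H ⊗ VecGrp.pt k B ⟶ Q, algOf ψD ψ f = φ :=
  ⟨inv (q ψD B) ≫ Hopf.e ψ _ (toConv φ), by
    rw [algOf, IsIso.hom_inv_id_assoc, MulEquiv.symm_apply_apply]⟩

theorem q_natural (g : B →ₐ[k] B') :
    q ψD B' ≫ (H ◁ VecGrp.ptMap g) = VecGrp.ptMap (MonoidAlgebra.mapAlgHom G g) ≫ q ψD B := by
  rw [q, q, lift_whiskerLeft, comp_lift, Hopf.e_natural, ← ptMap_comp, ← ptMap_comp]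
  congr 1
  · congr 2
    exact MonoidAlgebra.algHom_ext' (MonoidHom.ext fun x => by simp [incG]) (by ext)
  · congr 1
    exact AlgHom.ext fun r => by simp

theorem algOf_precomp (g : B →ₐ[k] B') (f : H ⊗ VecGrp.pt k B ⟶ Q) :
    algOf ψD ψ ((H ◁ VecGrp.ptMap g) ≫ f) = push g (algOf ψD ψ f) := by
  apply WithConv.toConv_injective
  apply (Hopf.e ψ (MA B' G)).injective
  rw [q_algOf, ← Category.assoc, q_natural, Category.assoc, ← q_algOf ψD ψ f, Hopf.e_natural]
  rfl

theorem incG_conv :
    toConv ((i1 k G B).comp (incG k G B)) * toConv ((i2 k G B).comp (incG k G B)) =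
      toConv ((dd k G B).comp (incG k G B)) := by
  apply WithConv.ofConv_injective
  refine MonoidAlgebra.algHom_ext' (MonoidHom.ext fun g => ?_) (by ext)
  simp [AlgHom.convMul_apply, incG_single, i1_single, i2_apply, dd_single]

theorem comp_singleOne :
    (i1 k G B).comp (MonoidAlgebra.singleOneAlgHom : B →ₐ[k] MA B G) =
        (i2 k G B).comp MonoidAlgebra.singleOneAlgHom ∧
      (dd k G B).comp (MonoidAlgebra.singleOneAlgHom : B →ₐ[k] MA B G) =
        (i2 k G B).comp MonoidAlgebra.singleOneAlgHom :=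
  ⟨AlgHom.ext fun r => by simp [i1_single, i2_apply], AlgHom.ext fun r => by simp [dd_single, i2_apply]⟩

theorem ptMap_q (h : MA B G →ₐ[k] MA (MA B G) G) :
    VecGrp.ptMap h ≫ q ψD B = lift (Hopf.e ψD _ (toConv (h.comp (incG k G B))))
      (VecGrp.ptMap (h.comp MonoidAlgebra.singleOneAlgHom)) := by
  rw [q, comp_lift, Hopf.e_natural, ← ptMap_comp]

theorem isHomFamily_iff (f : H ⊗ VecGrp.pt k B ⟶ Q) :
    AutFam.IsHomFamily H Q f ↔ IsHom (algOf ψD ψ f) := by
  have key : ∀ h : MA B G →ₐ[k] MA (MA B G) G,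
      Hopf.e ψ _ (toConv (h.comp (algOf ψD ψ f))) = VecGrp.ptMap h ≫ q ψD B ≫ f := fun h => by
    rw [← q_algOf ψD ψ f, Hopf.e_natural]
  have e12 : Hopf.e ψD _ (toConv ((dd k G B).comp (incG k G B))) =
      Hopf.e ψD _ (toConv ((i1 k G B).comp (incG k G B))) * Hopf.e ψD _ (toConv ((i2 k G B).comp (incG k G B))) := by
    rw [← map_mul, incG_conv]
  constructor
  · intro hf
    apply (Hopf.e ψ _).injective
    rw [map_mul, key, key, key, ← Category.assoc, ← Category.assoc, ← Category.assoc,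
      ptMap_q, ptMap_q, ptMap_q, comp_singleOne.1, comp_singleOne.2, e12]
    exact (hf _ _ _ _).symm
  · intro hf X g₁ g₂ t
    obtain ⟨z, hz⟩ : ∃ z : X ⟶ VecGrp.pt k (MA B G), z ≫ q ψD B = lift g₂ t :=
      ⟨lift g₂ t ≫ inv (q ψD B), by simp⟩
    obtain ⟨w, hw⟩ : ∃ w : X ⟶ VecGrp.pt k (MA (MA B G) G), w ≫ q ψD (MA B G) = lift g₁ z :=
      ⟨lift g₁ z ≫ inv (q ψD (MA B G)), by simp⟩
    have hwG : w ≫ Hopf.e ψD _ (toConv ((i1 k G B).comp (incG k G B))) = g₁ := by
      have h := congrArg (· ≫ fst _ _) hw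
      simp only [q, Category.assoc, lift_fst] at h
      rw [show (i1 k G B).comp (incG k G B) = incG k G (MA B G) from
        MonoidAlgebra.algHom_ext' (MonoidHom.ext fun x => by simp [incG, i1_single, ← MonoidAlgebra.one_def]) (by ext)]
      exact h
    have hw2 : w ≫ VecGrp.ptMap (i2 k G B) = z := by
      have h := congrArg (· ≫ snd _ _) hw
      simp only [q, Category.assoc, lift_snd] at h
      exact h
    have h2 : w ≫ VecGrp.ptMap (i2 k G B) ≫ q ψD B = lift g₂ t := by rw [reassoc_of% hw2, hz]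
    have hG2 : w ≫ Hopf.e ψD _ (toConv ((i2 k G B).comp (incG k G B))) = g₂ := by
      have h := congrArg (· ≫ fst _ _) h2
      simp only [ptMap_q, Category.assoc, lift_fst] at h
      exact h
    have ht : w ≫ VecGrp.ptMap ((i2 k G B).comp MonoidAlgebra.singleOneAlgHom) = t := by
      have h := congrArg (· ≫ snd _ _) h2
      simp only [ptMap_q, Category.assoc, lift_snd] at h
      exact h
    have h1 : w ≫ VecGrp.ptMap (i1 k G B) ≫ q ψD B = lift g₁ t := by
      rw [ptMap_q, comp_lift, hwG, comp_singleOne.1, ht]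
    have hd : w ≫ VecGrp.ptMap (dd k G B) ≫ q ψD B = lift (g₁ * g₂) t := by
      rw [ptMap_q, comp_lift, e12, MonObj.comp_mul, hwG, hG2, comp_singleOne.2, ht]
    rw [← hd, ← h1, ← h2, Category.assoc, Category.assoc, Category.assoc, Category.assoc, Category.assoc,
      Category.assoc, ← key, ← key, ← key, ← MonObj.comp_mul, ← map_mul, hf]

end Groth.Agent.Const38.HomDS
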