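import Groth.Agent.Const38.HomDS.Bridge
import Groth.Agent.Const38.HomSheaf

/-!
The charts of the functor of homomorphisms from a diagonalisable group to an affine group with a model.
-/

set_option autoImplicit false
set_option backward.isDefEq.respectTransparency false
set_option backward.isDefEq.respectTransparency.types false
set_option linter.style.haveILetI false
set_option linter.unusedSectionVars false
set_option maxSynthPendingDepth 5
universe u

open CategoryTheory MonoidalCategory CartesianMonoidalCategory MonObj GrpObj AlgebraicGeometry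
open CategoryTheory.Limits
open TensorProduct WithConv

noncomputable section

namespace Groth.Agent.Const38.HomDS

open RedPts82

variable {k : Type u} [CommRing k]

/-- Morphisms agreeing on affine points agree. -/
theorem eq_of_affine_points {T X : Over (Spec (CommRingCat.of k))} (a b : T ⟶ X)
    (h : ∀ (B : Type u) [CommRing B] [Algebra k B] (y : VecGrp.pt k B ⟶ T), y ≫ a = y ≫ b) : a = b := by
  refine Over.OverMorphism.ext (Scheme.Cover.hom_ext T.left.affineCover _ _ fun i => ?_)
  let Ti : Over (Spec (CommRingCat.of k)) := Over.mk (T.left.affineCover.f i ≫ T.hom)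
  haveI : IsAffine Ti.left := inferInstanceAs (IsAffine (T.left.affineCover.X i))
  obtain ⟨B, _, _, ⟨e⟩⟩ := exists_pt_iso Ti
  let j : Ti ⟶ T := Over.homMk (T.left.affineCover.f i) rfl
  have hj : j ≫ a = j ≫ b := by
    rw [← cancel_epi e.hom, ← Category.assoc, ← Category.assoc]
    exact h B (e.hom ≫ j)
  exact congrArg (fun l : Ti ⟶ X => l.left) hj

/-- A morphism through which every affine point lifts uniquely is an isomorphism. -/
theorem isIso_of_affine_points {X Y : Over (Spec (CommRingCat.of k))} (a : X ⟶ Y)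
    (h : ∀ (B : Type u) [CommRing B] [Algebra k B] (y : VecGrp.pt k B ⟶ Y), ∃! x, x ≫ a = y) : IsIso a := by
  have hinj : ∀ (T : Over (Spec (CommRingCat.of k))) (g g' : T ⟶ X), g ≫ a = g' ≫ a → g = g' := fun T g g' hgg =>
    eq_of_affine_points g g' fun B _ _ y =>
      (h B (y ≫ g ≫ a)).unique (Category.assoc _ _ _) (by rw [hgg, Category.assoc])
  let 𝒰 := Y.left.affineCover
  let Yi : 𝒰.I₀ → Over (Spec (CommRingCat.of k)) := fun i => Over.mk (𝒰.f i ≫ Y.hom)
  let j : ∀ i, Yi i ⟶ Y := fun i => Over.homMk (𝒰.f i) rfl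
  have hl : ∀ i, ∃ l : Yi i ⟶ X, l ≫ a = j i := fun i => by
    haveI : IsAffine (Yi i).left := inferInstanceAs (IsAffine (Y.left.affineCover.X i))
    obtain ⟨B, _, _, ⟨e⟩⟩ := exists_pt_iso (Yi i)
    obtain ⟨x, hx, -⟩ := h B (e.hom ≫ j i)
    exact ⟨e.inv ≫ x, by rw [Category.assoc, hx, Iso.inv_hom_id_assoc]⟩
  choose l hl using hl
  have hc : ∀ i i', pullback.fst (𝒰.f i) (𝒰.f i') ≫ (l i).left = pullback.snd _ _ ≫ (l i').left := fun i i' => by
    let P : Over (Spec (CommRingCat.of k)) := Over.mk (pullback.fst (𝒰.f i) (𝒰.f i') ≫ 𝒰.f i ≫ Y.hom)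
    let p : P ⟶ Yi i := Over.homMk (pullback.fst _ _) rfl
    let p' : P ⟶ Yi i' := Over.homMk (pullback.snd _ _) (by
      show pullback.snd _ _ ≫ 𝒰.f i' ≫ Y.hom = pullback.fst (𝒰.f i) (𝒰.f i') ≫ 𝒰.f i ≫ Y.hom
      rw [← Category.assoc, ← pullback.condition, Category.assoc])
    have e := hinj P (p ≫ l i) (p' ≫ l i') (by
      rw [Category.assoc, Category.assoc, hl, hl]
      exact Over.OverMorphism.ext pullback.condition)
    exact congrArg (fun m : P ⟶ X => m.left) e
  let b : Y ⟶ X := Over.homMk (𝒰.glueMorphisms (fun i => (l i).left) hc) (by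
    refine Scheme.Cover.hom_ext 𝒰 _ _ fun i => ?_
    rw [← Category.assoc, Scheme.Cover.ι_glueMorphisms]
    exact Over.w (l i))
  have hb : b ≫ a = 𝟙 Y := by
    refine Over.OverMorphism.ext (Scheme.Cover.hom_ext 𝒰 _ _ fun i => ?_)
    show 𝒰.f i ≫ 𝒰.glueMorphisms (fun i => (l i).left) hc ≫ a.left = 𝒰.f i ≫ 𝟙 _
    rw [← Category.assoc, Scheme.Cover.ι_glueMorphisms, Category.comp_id]
    exact congrArg (fun m : Yi i ⟶ Y => m.left) (hl i)
  exact ⟨b, hinj X _ _ (by rw [Category.assoc, hb, Category.comp_id, Category.id_comp]), hb⟩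

variable {C : Type u} [CommRing C] [HopfAlgebra k C] {G : Type} [CommGroup G]
  {H : Over (Spec (CommRingCat.of k))} [GrpObj H]
  (ψD : Hopf.sp k (MonoidAlgebra k G) ≅ H) [IsMonHom ψD.hom]
  {Q : Over (Spec (CommRingCat.of k))} [GrpObj Q] (ψ : Hopf.sp k C ≅ Q) [IsMonHom ψ.hom]
  (m : Model k C) [Algebra.FinitePresentation k C]

/-- A chart ring. -/
structure ChartData (W : Finset G) where
  R : Type u
  [cr : CommRing R]
  [alg : Algebra k R]
  φ : C →ₐ[k] MA R G
  fp : Algebra.FinitePresentation k R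
  hom : IsHom φ
  supp : ∀ g, g ∉ W → ∀ i, cf φ g (m.x i) = 0
  univ : ∀ (B : Type u) [CommRing B] [Algebra k B] (ψ : C →ₐ[k] MA B G), IsHom ψ →
    (∀ g, g ∉ W → ∀ i, cf ψ g (m.x i) = 0) → ∃! f : R →ₐ[k] B, push f φ = ψ

attribute [instance] ChartData.cr ChartData.alg

theorem nonempty_chartData (W : Finset G) : Nonempty (ChartData m W) := by
  obtain ⟨R, _, _, φ, h₁, h₂, h₃, h₄⟩ := exists_chartRing m W
  exact ⟨{ R := R, φ := φ, fp := h₁, hom := h₂, supp := h₃, univ := h₄ }⟩

/-- The chosen chart ring. -/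
def chart (W : Finset G) : ChartData m W := Classical.choice (nonempty_chartData m W)

/-- The universal homomorphism of a chart ring. -/
abbrev φW (W : Finset G) : C →ₐ[k] MA (chart m W).R G := (chart m W).φ

/-- The open subset of good points. -/
def OW (W : Finset G) : (Spec (CommRingCat.of (chart m W).R)).Opens :=
  ⟨{p | Good m (φW m W) W p}, isOpen_good m _ W⟩

/-- The chart. -/
def XW (W : Finset G) : Over (Spec (CommRingCat.of k)) :=
  Over.mk ((OW m W).ι ≫ (VecGrp.pt k (chart m W).R).hom)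

/-- The inclusion of a chart in its affine hull. -/
def inc (W : Finset G) : XW m W ⟶ VecGrp.pt k (chart m W).R := Over.homMk (OW m W).ι rfl

instance (W : Finset G) : IsOpenImmersion (inc m W).left := inferInstanceAs (IsOpenImmersion (OW m W).ι)

theorem inc_injective (W : Finset G) {T : Over (Spec (CommRingCat.of k))} {a b : T ⟶ XW m W}
    (h : a ≫ inc m W = b ≫ inc m W) : a = b :=
  Over.OverMorphism.ext ((cancel_mono (inc m W).left).1 (congrArg (fun l => l.left) h))

theorem good_inc (W : Finset G) (x : (XW m W).left) : Good m (φW m W) W ((inc m W).left x) := by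
  have h : (inc m W).left x ∈ OW m W := x.2
  exact h

theorem exists_lift_inc {W : Finset G} {T : Over (Spec (CommRingCat.of k))}
    (a : T ⟶ VecGrp.pt k (chart m W).R) (h : ∀ p : T.left, Good m (φW m W) W (a.left p)) :
    ∃ b : T ⟶ XW m W, b ≫ inc m W = a := by
  have hr : Set.range a.left ⊆ Set.range (inc m W).left := by
    rintro _ ⟨p, rfl⟩
    exact ⟨⟨a.left p, h p⟩, rfl⟩
  refine ⟨Over.homMk (IsOpenImmersion.lift (inc m W).left a.left hr) ?_,
    Over.OverMorphism.ext (IsOpenImmersion.lift_fac _ _ hr)⟩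
  show IsOpenImmersion.lift (inc m W).left a.left hr ≫ (inc m W).left ≫ (VecGrp.pt k (chart m W).R).hom = T.hom
  rw [← Category.assoc, IsOpenImmersion.lift_fac]
  exact Over.w a

/-- The family of the affine hull. -/
def ufam (W : Finset G) : H ⊗ VecGrp.pt k (chart m W).R ⟶ Q := (algOf_surjective ψD ψ (φW m W)).choose

theorem algOf_ufam (W : Finset G) : algOf ψD ψ (ufam ψD ψ m W) = φW m W :=
  (algOf_surjective ψD ψ (φW m W)).choose_spec

/-- The family of a chart. -/
def υW (W : Finset G) : H ⊗ XW m W ⟶ Q := (H ◁ inc m W) ≫ ufam ψD ψ m W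

theorem isHomFamily_υW (W : Finset G) : AutFam.IsHomFamily H Q (υW ψD ψ m W) :=
  isHomFamily_precomp H Q _ ((isHomFamily_iff ψD ψ _).2 (by rw [algOf_ufam]; exact (chart m W).hom))

/-- All weights of a family over an affine parameter lie in a finite set. -/
def AllGood (W : Finset G) {B : Type u} [CommRing B] [Algebra k B] (f : H ⊗ VecGrp.pt k B ⟶ Q) : Prop :=
  ∀ p, Good m (algOf ψD ψ f) W p

theorem exists_allGood {B : Type u} [CommRing B] [Algebra k B] (f : H ⊗ VecGrp.pt k B ⟶ Q) :
    ∃ W, AllGood ψD ψ m W f :=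
  ⟨wts m (algOf ψD ψ f), fun p => good_wts m _ p⟩

theorem algOf_comp_υW (W : Finset G) {B : Type u} [CommRing B] [Algebra k B] (a : VecGrp.pt k B ⟶ XW m W)
    (g : (chart m W).R →ₐ[k] B) (hg : VecGrp.ptMap g = a ≫ inc m W) :
    algOf ψD ψ ((H ◁ a) ≫ υW ψD ψ m W) = push g (φW m W) := by
  rw [υW, ← Category.assoc, ← MonoidalCategory.whiskerLeft_comp, ← hg, algOf_precomp, algOf_ufam]

theorem allGood_of_point (W : Finset G) {B : Type u} [CommRing B] [Algebra k B] (a : VecGrp.pt k B ⟶ XW m W) :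
    AllGood ψD ψ m W ((H ◁ a) ≫ υW ψD ψ m W) := by
  obtain ⟨g, hg⟩ := ptMap_surjective (a ≫ inc m W)
  intro p
  rw [algOf_comp_υW ψD ψ m W a g hg, good_push_iff]
  have h := good_inc m W (a.left p)
  rwa [show (inc m W).left (a.left p) = (a ≫ inc m W).left p from rfl, ← hg] at h

/-- The universal property of a chart for affine parameters. -/
theorem existsUnique_point (W : Finset G) {B : Type u} [CommRing B] [Algebra k B] (f : H ⊗ VecGrp.pt k B ⟶ Q)
    (hf : AutFam.IsHomFamily H Q f) (hW : AllGood ψD ψ m W f) :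
    ∃! a : VecGrp.pt k B ⟶ XW m W, (H ◁ a) ≫ υW ψD ψ m W = f := by
  have hom := (isHomFamily_iff ψD ψ f).1 hf
  obtain ⟨g, hg, hgu⟩ := (chart m W).univ B (algOf ψD ψ f) hom
    fun x hx i => cf_eq_zero_of_good m _ hom W hW hx i
  obtain ⟨a, ha⟩ := exists_lift_inc m (VecGrp.ptMap g) (fun p => by
    have h := hW p
    rw [← hg, good_push_iff] at h
    exact h)
  refine ⟨a, algOf_injective ψD ψ ((algOf_comp_υW ψD ψ m W a g ha.symm).trans hg), fun a' ha' => ?_⟩
  obtain ⟨g', hg'⟩ := ptMap_surjective (a' ≫ inc m W)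
  refine inc_injective m W ?_
  rw [← hg', ha]
  refine congrArg _ (hgu g' ?_)
  show push g' (φW m W) = algOf ψD ψ f
  rw [← algOf_comp_υW ψD ψ m W a' g' hg']
  exact congrArg _ ha'

theorem eq_of_υW_eq (W : Finset G) {T : Over (Spec (CommRingCat.of k))} {a b : T ⟶ XW m W}
    (h : (H ◁ a) ≫ υW ψD ψ m W = (H ◁ b) ≫ υW ψD ψ m W) : a = b := by
  refine eq_of_affine_points a b fun B _ _ y => ?_
  refine (existsUnique_point ψD ψ m W ((H ◁ (y ≫ a)) ≫ υW ψD ψ m W)
    (isHomFamily_precomp H Q _ (isHomFamily_υW ψD ψ m W)) (allGood_of_point ψD ψ m W _)).unique rfl ?_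
  rw [MonoidalCategory.whiskerLeft_comp, MonoidalCategory.whiskerLeft_comp, Category.assoc, Category.assoc, h]

/-! ### Transitions -/

variable {W W' : Finset G}

/-- The transition between affine hulls. -/
def tg (h : W ⊆ W') : (chart m W').R →ₐ[k] (chart m W).R :=
  ((chart m W').univ _ (φW m W) (chart m W).hom fun g hg i => (chart m W).supp g (fun hW => hg (h hW)) i).exists.choose

theorem tg_spec (h : W ⊆ W') : push (tg m h) (φW m W') = φW m W :=
  ((chart m W').univ _ (φW m W) (chart m W).hom fun g hg i => (chart m W).supp g (fun hW => hg (h hW)) i).exists.choose_spec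

theorem good_tg (h : W ⊆ W') (V : Finset G) (x : (XW m W).left) :
    Good m (φW m W') V ((inc m W ≫ VecGrp.ptMap (tg m h)).left x) ↔ Good m (φW m W) V ((inc m W).left x) := by
  conv_rhs => rw [← tg_spec m h, good_push_iff]
  exact Iff.rfl

theorem exists_tr (h : W ⊆ W') : ∃ t : XW m W ⟶ XW m W', t ≫ inc m W' = inc m W ≫ VecGrp.ptMap (tg m h) :=
  exists_lift_inc m _ fun x => (good_tg m h W' x).2 (good_mono m h (good_inc m W x))

/-- The transition between charts. -/
def tr (h : W ⊆ W') : XW m W ⟶ XW m W' := (exists_tr m h).choose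

theorem tr_inc (h : W ⊆ W') : tr m h ≫ inc m W' = inc m W ≫ VecGrp.ptMap (tg m h) := (exists_tr m h).choose_spec

theorem tr_υW (h : W ⊆ W') : (H ◁ tr m h) ≫ υW ψD ψ m W' = υW ψD ψ m W := by
  rw [υW, ← Category.assoc, ← MonoidalCategory.whiskerLeft_comp, tr_inc, MonoidalCategory.whiskerLeft_comp,
    Category.assoc, υW]
  congr 1
  apply algOf_injective ψD ψ
  rw [algOf_precomp, algOf_ufam, algOf_ufam, tg_spec]

include ψD ψ in
theorem tr_refl (W : Finset G) : tr m (Finset.Subset.refl W) = 𝟙 (XW m W) :=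
  eq_of_υW_eq ψD ψ m W (by rw [tr_υW, MonoidalCategory.whiskerLeft_id, Category.id_comp])

include ψD ψ in
theorem tr_comp {W'' : Finset G} (h : W ⊆ W') (h' : W' ⊆ W'') : tr m h ≫ tr m h' = tr m (h.trans h') :=
  eq_of_υW_eq ψD ψ m W'' (by rw [MonoidalCategory.whiskerLeft_comp, Category.assoc, tr_υW, tr_υW, tr_υW])

/-- The points of a smaller chart in a larger one. -/
def UW (W W' : Finset G) : (XW m W').left.Opens :=
  ⟨{x | Good m (φW m W') W ((inc m W').left x)},
    (isOpen_good m (φW m W') W).preimage (inc m W').left.continuous⟩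

theorem tr_mem (h : W ⊆ W') (x : (XW m W).left) : (tr m h).left x ∈ UW m W W' := by
  show Good m (φW m W') W ((tr m h ≫ inc m W').left x)
  rw [tr_inc]
  exact (good_tg m h W x).2 (good_inc m W x)

include ψD ψ in
theorem isOpenImmersion_tr (h : W ⊆ W') :
    IsOpenImmersion (tr m h).left ∧ Set.range (tr m h).left = UW m W W' := by
  let U : Over (Spec (CommRingCat.of k)) := Over.mk ((UW m W W').ι ≫ (XW m W').hom)
  let j : U ⟶ XW m W' := Over.homMk (UW m W W').ι rfl
  have hr : Set.range (tr m h).left ⊆ Set.range (UW m W W').ι := by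
    rintro _ ⟨x, rfl⟩
    exact ⟨⟨_, tr_mem m h x⟩, rfl⟩
  let t : XW m W ⟶ U := Over.homMk (IsOpenImmersion.lift (UW m W W').ι (tr m h).left hr) (by
    show IsOpenImmersion.lift (UW m W W').ι (tr m h).left hr ≫ (UW m W W').ι ≫ (XW m W').hom = (XW m W).hom
    rw [← Category.assoc, IsOpenImmersion.lift_fac]
    exact Over.w (tr m h))
  have ht : t ≫ j = tr m h := Over.OverMorphism.ext (IsOpenImmersion.lift_fac _ _ hr)
  have : IsIso t := isIso_of_affine_points t fun B _ _ y => by
    let f := (H ◁ (y ≫ j)) ≫ υW ψD ψ m W'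
    have hf : AutFam.IsHomFamily H Q f := isHomFamily_precomp H Q _ (isHomFamily_υW ψD ψ m W')
    obtain ⟨g, hg⟩ := ptMap_surjective ((y ≫ j) ≫ inc m W')
    have hW : AllGood ψD ψ m W f := fun p => by
      rw [algOf_comp_υW ψD ψ m W' _ g hg, good_push_iff]
      have hm : (y ≫ j).left p ∈ UW m W W' := (y.left p).2
      have hm' : Good m (φW m W') W (((y ≫ j) ≫ inc m W').left p) := hm
      rwa [← hg] at hm'
    obtain ⟨a, ha, hau⟩ := existsUnique_point ψD ψ m W f hf hW
    refine ⟨a, ?_, fun a' ha' => hau a' ?_⟩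
    · have hj : a ≫ tr m h = y ≫ j := eq_of_υW_eq ψD ψ m W' (by
        rw [MonoidalCategory.whiskerLeft_comp, Category.assoc, tr_υW]; exact ha)
      have : Mono j.left := inferInstanceAs (Mono (UW m W W').ι)
      refine Over.OverMorphism.ext ((cancel_mono j.left).1 ?_)
      exact congrArg (fun l => l.left) (show (a ≫ t) ≫ j = y ≫ j by rw [Category.assoc, ht]; exact hj)
    · show (H ◁ a') ≫ υW ψD ψ m W = f
      rw [← tr_υW ψD ψ m h, ← Category.assoc, ← MonoidalCategory.whiskerLeft_comp, ← ht, ← Category.assoc, ha']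
  have e : (tr m h).left = t.left ≫ (UW m W W').ι := congrArg (fun l => l.left) ht.symm
  have : IsIso t.left := inferInstanceAs (IsIso ((Over.forget _).map t))
  refine ⟨e ▸ inferInstanceAs (IsOpenImmersion (t.left ≫ (UW m W W').ι)), Set.Subset.antisymm ?_ fun x hx => ?_⟩
  · rintro _ ⟨x, rfl⟩
    exact tr_mem m h x
  · obtain ⟨y, hy⟩ := t.left.homeomorph.surjective (⟨x, hx⟩ : (UW m W W' : Scheme.{u}))
    exact ⟨y, by rw [e, Scheme.Hom.comp_apply]; exact congrArg (UW m W W').ι hy⟩

end Groth.Agent.Const38.HomDS
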