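import Groth.Agent.Const38.HomDS.Split
import Groth.Agent.Const38.TwDual
import Groth.Agent.RedPts82.SplitSub
import Groth.Agent.Desc59.DDFamIndQA
import Groth.Agent.Unr55.ConsSmooth
import Groth.Agent.SGA3a.QuotCover
import Groth.Prelude.Def_SGA3x

/-!
Descent of the scheme of homomorphisms from a group which is fpqc-locally diagonalisable.
-/

set_option autoImplicit false
set_option backward.isDefEq.respectTransparency false
set_option backward.isDefEq.respectTransparency.types false
set_option linter.style.haveILetI false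
universe u

open CategoryTheory MonoidalCategory CartesianMonoidalCategory MonObj GrpObj AlgebraicGeometry
open CategoryTheory.Limits

noncomputable section

namespace Groth.Agent.Const38.HomDS

open RedPts82 SGA3a.QuotCover

variable {S : Scheme.{u}}

/-- The scheme of homomorphisms, from a splitting over a covering by spectra. -/
theorem exists_hom_of_cover (H G : Over S) [GrpObj H] [GrpObj G] (hG : Smooth G.hom) (hGa : IsAffineHom G.hom)
    {J : Type u} (k : J → CommRingCat.{u}) (g : ∀ i, Spec (k i) ⟶ S) [Desc59.IsFpqcMor (Sigma.desc g)]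
    [Flat (Sigma.desc g)] [Surjective (Sigma.desc g)] (M : J → Type) [∀ i, AddCommGroup (M i)]
    (eH : ∀ i, Nonempty (Grp.mk (Red.bc (g i) H) ≅ Grp.mk (Red.DS (Spec (k i)) (M i)))) :
    ∃ (A : Over S) (υ : H ⊗ A ⟶ G), AutFam.RepresentsHom H G A υ ∧ Smooth A.hom ∧ IsSeparated A.hom := by
  have hloc : ∀ i, ∃ (A : Over (Spec (k i))) (υ : Red.DS (Spec (k i)) (M i) ⊗ A ⟶ Red.bc (g i) G),
      AutFam.RepresentsHom (Red.DS (Spec (k i)) (M i)) (Red.bc (g i) G) A υ ∧ Smooth A.hom ∧ IsSeparated A.hom ∧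
        MoreMor.IsIndQuasiAffineHom A.hom := fun i => by
    haveI : Smooth (Red.bc (g i) G).hom := inferInstanceAs (Smooth (pullback.snd G.hom (g i)))
    haveI : IsAffineHom (Red.bc (g i) G).hom := inferInstanceAs (IsAffineHom (pullback.snd G.hom (g i)))
    exact exists_hom_DS (k := k i) (M i) (Red.bc (g i) G)
  choose A₀ υ₀ hrep hsm hsep hqa using hloc
  choose υ₁ hfam₁ hform₁ huniv₁ using fun i =>
    exists_transfer (g i) (eH i).some (Iso.refl (Grp.mk (Red.bc (g i) G))) (υ₀ i) (hrep i).1 (fun T φ hφ =>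
      (hrep i).2 T φ hφ)
  let W : J → Over S := fun i => Over.mk (g i)
  let A : J → Over S := fun i => (Over.map (g i)).obj (A₀ i)
  let q : ∀ i, A i ⟶ W i := fun i => Over.homMk (A₀ i).hom
  obtain ⟨q', υ', hmap, hU', -⟩ := exists_sig_univ_map W A q υ₁ (fun i => ⟨hfam₁ i, huniv₁ i⟩)
  have hqa' : MoreMor.IsIndQuasiAffineHom q'.left := by
    rw [hmap]; exact Desc59.indQA_sigmaMap (fun i => (q i).left) hqa
  haveI : IsZariskiLocalAtTarget (@Smooth : MorphismProperty Scheme.{u}) := inferInstance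
  have hsm' : Smooth q'.left := by
    rw [hmap]
    refine IsZariskiLocalAtTarget.of_openCover (P := @Smooth) (sigmaOpenCover fun i => (W i).left) ?_
    intro (i : J)
    show Smooth (pullback.snd (Limits.Sigma.map fun i => (q i).left) (Sigma.ι (fun i => (W i).left) i))
    rw [← (Desc59.Sigma'.isPullback_map (fun i => (q i).left) i).isoPullback_inv_snd,
      MorphismProperty.cancel_left_of_respectsIso (P := @Smooth)]
    exact hsm i
  have hsep' : IsSeparated q'.left := by
    rw [hmap]
    refine IsZariskiLocalAtTarget.of_openCover (P := @IsSeparated) (sigmaOpenCover fun i => (W i).left) ?_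
    intro (i : J)
    show IsSeparated (pullback.snd (Limits.Sigma.map fun i => (q i).left) (Sigma.ι (fun i => (W i).left) i))
    rw [← (Desc59.Sigma'.isPullback_map (fun i => (q i).left) i).isoPullback_inv_snd,
      MorphismProperty.cancel_left_of_respectsIso (P := @IsSeparated)]
    exact hsep i
  have hW : (sig W).hom = Sigma.desc g := rfl
  haveI : Desc59.IsFpqcMor (sig W).hom := ‹Desc59.IsFpqcMor (Sigma.desc g)›
  haveI : Surjective (sig W).hom := ‹Surjective (Sigma.desc g)›
  haveI : Flat (sig W).hom := ‹Flat (Sigma.desc g)›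
  obtain ⟨B, υ, hB, π, hπ⟩ := exists_representsHom_fpqc' hU' hqa'
  have hcov : IsCov (sig W).hom := isCov_of_isFpqcMor _
  exact ⟨B, υ, hB, IsCov.descend (@Smooth) Unr55.ConsSmooth.descendsAlong_smooth hcov hπ.flip hsm',
    IsCov.descend (@IsSeparated) Unr55.isSeparated hcov hπ.flip hsep'⟩

/-- The case of a group which is fpqc-locally diagonalisable. -/
theorem exists_hom_fpqc (H G : Over S) [GrpObj H] [GrpObj G] (hH : IsMultType H)
    (hG : Smooth G.hom) (hGa : IsAffineHom G.hom) :
    ∃ (A : Over S) (υ : H ⊗ A ⟶ G), AutFam.RepresentsHom H G A υ ∧ Smooth A.hom ∧ IsSeparated A.hom := by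
  obtain ⟨S', f, hf, hfs, hfc, hloc⟩ := hH
  have hp : ∀ s : S', ∃ (k : CommRingCat.{u}) (j : Spec k ⟶ S') (M : Type) (_ : AddCommGroup M),
      IsOpenImmersion j ∧ s ∈ Set.range j ∧ Nonempty (Grp.mk (Red.bc (j ≫ f) H) ≅ Grp.mk (Red.DS (Spec k) M)) := fun s => by
    obtain ⟨U, hsU, M, iM, he⟩ := hloc s
    obtain ⟨V, hV, hsV, hVU⟩ := exists_isAffineOpen_mem_and_subset (U := U) (x := s) hsU
    have hr : Set.range hV.fromSpec ⊆ Set.range U.ι := by
      rw [hV.range_fromSpec, U.range_ι]; exact hVU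
    refine ⟨Γ(S', V), hV.fromSpec, M, iM, inferInstance, hV.range_fromSpec.symm ▸ hsV, ?_⟩
    rw [← IsOpenImmersion.lift_fac U.ι hV.fromSpec hr, Category.assoc]
    exact split_bc (U.ι ≫ f) (IsOpenImmersion.lift U.ι hV.fromSpec hr) he
  choose k j M iM hj hsj he using hp
  haveI := hj
  let cU : (∐ fun s : S' => Spec (k s)) ⟶ S' := Sigma.desc j
  have hW : Sigma.desc (fun s => j s ≫ f) = cU ≫ f := Sigma.hom_ext _ _ fun s => by
    rw [Sigma.ι_desc, Sigma.ι_desc_assoc]
  have : Surjective cU := ⟨fun s => by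
    obtain ⟨y, hy⟩ := hsj s
    exact ⟨Sigma.ι (fun s : S' => Spec (k s)) s y, by rw [← Scheme.Hom.comp_apply, Sigma.ι_desc]; exact hy⟩⟩
  have : IsZariskiLocalAtSource (@Flat : MorphismProperty Scheme.{u}) :=
    HasRingHomProperty.instIsZariskiLocalAtSource
  have : IsZariskiLocalAtSource (@LocallyOfFinitePresentation : MorphismProperty Scheme.{u}) :=
    HasRingHomProperty.instIsZariskiLocalAtSource
  have : Flat cU := IsZariskiLocalAtSource.sigmaDesc fun s => (inferInstance : Flat (j s))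
  have : LocallyOfFinitePresentation cU :=
    IsZariskiLocalAtSource.sigmaDesc fun s => (inferInstance : LocallyOfFinitePresentation (j s))
  have : Desc59.IsFpqcMor f := isFpqcMor_of_compact f hfc
  have : Desc59.IsFpqcMor cU := Desc59.IsFpqcMor.of_lfp cU
  have : Desc59.IsFpqcMor (Sigma.desc fun s => j s ≫ f) := hW ▸ Desc59.IsFpqcMor.comp cU f
  have : Surjective (Sigma.desc fun s => j s ≫ f) := hW ▸ inferInstanceAs (Surjective (cU ≫ f))
  have : Flat (Sigma.desc fun s => j s ≫ f) := hW ▸ inferInstanceAs (Flat (cU ≫ f))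
  letI := iM
  exact exists_hom_of_cover H G hG hGa k (fun s => j s ≫ f) M he

/-- The case of a group which is étale-locally diagonalisable. -/
theorem exists_hom_etale (H G : Over S) [GrpObj H] [GrpObj G]
    (hH : TwC.Locally S TwC.Topology.etale (fun S' g => ∃ (M : Type) (_ : AddCommGroup M),
      Nonempty (Grp.mk (Red.bc g H) ≅ Grp.mk (Red.DS S' M))))
    (hG : Smooth G.hom) (hGa : IsAffineHom G.hom) :
    ∃ (A : Over S) (υ : H ⊗ A ⟶ G), AutFam.RepresentsHom H G A υ ∧ Smooth A.hom ∧ IsSeparated A.hom := by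
  have hp : ∀ s : S, ∃ (k : CommRingCat.{u}) (g : Spec k ⟶ S) (M : Type) (_ : AddCommGroup M),
      Etale g ∧ s ∈ Set.range g ∧ Nonempty (Grp.mk (Red.bc g H) ≅ Grp.mk (Red.DS (Spec k) M)) := fun s => by
    obtain ⟨S', f, hf, ⟨x, hx⟩, M, iM, he⟩ := hH s
    obtain ⟨V, hV, hxV, -⟩ := exists_isAffineOpen_mem_and_subset (U := (⊤ : S'.Opens)) (x := x) trivial
    haveI : Etale f := hf
    refine ⟨Γ(S', V), hV.fromSpec ≫ f, M, iM, inferInstance, ?_, split_bc f hV.fromSpec he⟩
    obtain ⟨y, hy⟩ : x ∈ Set.range hV.fromSpec := by rw [hV.range_fromSpec]; exact hxV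
    exact ⟨y, by rw [Scheme.Hom.comp_apply, hy]; exact hx⟩
  choose k g M iM hg hsg he using hp
  haveI := hg
  have : Surjective (Sigma.desc g) := ⟨fun s => by
    obtain ⟨y, hy⟩ := hsg s
    exact ⟨Sigma.ι (fun s : S => Spec (k s)) s y, by rw [← Scheme.Hom.comp_apply, Sigma.ι_desc]; exact hy⟩⟩
  have : IsZariskiLocalAtSource (@Flat : MorphismProperty Scheme.{u}) :=
    HasRingHomProperty.instIsZariskiLocalAtSource
  have : IsZariskiLocalAtSource (@LocallyOfFinitePresentation : MorphismProperty Scheme.{u}) :=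
    HasRingHomProperty.instIsZariskiLocalAtSource
  have : Flat (Sigma.desc g) := IsZariskiLocalAtSource.sigmaDesc fun s => (inferInstance : Flat (g s))
  have : LocallyOfFinitePresentation (Sigma.desc g) :=
    IsZariskiLocalAtSource.sigmaDesc fun s => (inferInstance : LocallyOfFinitePresentation (g s))
  have : Desc59.IsFpqcMor (Sigma.desc g) := Desc59.IsFpqcMor.of_lfp _
  letI := iM
  exact exists_hom_of_cover H G hG hGa k g M he

/-- Tori are fpqc-locally diagonalisable. -/
theorem isMultType_of_isTorus {H : Over S} [GrpObj H] (hH : Red.IsTorus H) : IsMultType H := by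
  obtain ⟨S', f, hf, hs, hqc, hloc⟩ := hH
  refine ⟨S', f, hf, hs, hqc, fun s' => ?_⟩
  obtain ⟨U, hU, r, he⟩ := hloc s'
  exact ⟨U, hU, Fin r → ℤ, inferInstance, he⟩

end Groth.Agent.Const38.HomDS
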