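import Groth.Agent.Const38.HomDS.Chart
import Mathlib.AlgebraicGeometry.Gluing

/-!
The scheme of homomorphisms from a diagonalisable group to an affine group with a model.
-/

set_option autoImplicit false
set_option backward.isDefEq.respectTransparency false
set_option backward.isDefEq.respectTransparency.types false
set_option linter.style.haveILetI false
set_option linter.unusedSectionVars false
set_option maxSynthPendingDepth 5
universe u w

open CategoryTheory MonoidalCategory CartesianMonoidalCategory MonObj GrpObj AlgebraicGeometry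
open CategoryTheory.Limits
open TensorProduct WithConv

noncomputable section

namespace Groth.Agent.Const38.HomDS

open RedPts82

variable {k : Type u} [CommRing k] {C : Type u} [CommRing C] [HopfAlgebra k C] {G : Type} [CommGroup G]
  {H : Over (Spec (CommRingCat.of k))} [GrpObj H]
  (ψD : Hopf.sp k (MonoidAlgebra k G) ≅ H) [IsMonHom ψD.hom]
  {Q : Over (Spec (CommRingCat.of k))} [GrpObj Q] (ψ : Hopf.sp k C ≅ Q) [IsMonHom ψ.hom]
  (m : Model k C) [Algebra.FinitePresentation k C]

theorem whiskerLeft_isOpenImmersion {A X Y : Over (Spec (CommRingCat.of k))} (j : X ⟶ Y)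
    [IsOpenImmersion j.left] : IsOpenImmersion (A ◁ j).left := by
  rw [Over.whiskerLeft_left]
  infer_instance

/-- Glueing morphisms over a jointly surjective family of open immersions. -/
theorem exists_glue_over {S : Scheme.{u}} {J : Type w} {X Z : Over S} {Y : J → Over S} (j : ∀ i, Y i ⟶ X)
    [∀ i, IsOpenImmersion (j i).left] (cov : ∀ x : X.left, ∃ i y, (j i).left y = x) (f : ∀ i, Y i ⟶ Z)
    (compat : ∀ i i' (P : Over S) (p : P ⟶ Y i) (p' : P ⟶ Y i'), p ≫ j i = p' ≫ j i' → p ≫ f i = p' ≫ f i') :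
    ∃ g : X ⟶ Z, ∀ i, j i ≫ g = f i := by
  let 𝒰 : Scheme.OpenCover X.left :=
    Scheme.Cover.mkOfCovers J (fun i => (Y i).left) (fun i => (j i).left) cov
  have hc : ∀ i i', pullback.fst (j i).left (j i').left ≫ (f i).left = pullback.snd _ _ ≫ (f i').left := fun i i' => by
    let P : Over S := Over.mk (pullback.fst (j i).left (j i').left ≫ (Y i).hom)
    let p : P ⟶ Y i := Over.homMk (pullback.fst _ _) rfl
    let p' : P ⟶ Y i' := Over.homMk (pullback.snd _ _) (by
      show pullback.snd _ _ ≫ (Y i').hom = pullback.fst _ _ ≫ (Y i).hom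
      rw [← Over.w (j i), ← Over.w (j i'), ← Category.assoc, ← Category.assoc, pullback.condition])
    exact congrArg (fun l : P ⟶ Z => l.left) (compat i i' P p p' (Over.OverMorphism.ext pullback.condition))
  let gm : X.left ⟶ Z.left := Scheme.Cover.glueMorphisms 𝒰 (fun i => (f i).left) hc
  have h : ∀ i, (j i).left ≫ gm = (f i).left := fun i => Scheme.Cover.ι_glueMorphisms 𝒰 _ _ i
  have hw : gm ≫ Z.hom = X.hom := Scheme.Cover.hom_ext 𝒰 _ _ fun i => by
    show (j i).left ≫ gm ≫ Z.hom = (j i).left ≫ X.hom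
    rw [← Category.assoc, h, Over.w, Over.w]
  exact ⟨Over.homMk gm hw, fun i => Over.OverMorphism.ext (h i)⟩

/-- Morphisms agreeing on a jointly surjective family of open immersions agree. -/
theorem eq_of_cover_over {S : Scheme.{u}} {J : Type w} {X Z : Over S} {Y : J → Over S} (j : ∀ i, Y i ⟶ X)
    [∀ i, IsOpenImmersion (j i).left] (cov : ∀ x : X.left, ∃ i y, (j i).left y = x) {g g' : X ⟶ Z}
    (h : ∀ i, j i ≫ g = j i ≫ g') : g = g' := by
  let 𝒰 : Scheme.OpenCover X.left :=
    Scheme.Cover.mkOfCovers J (fun i => (Y i).left) (fun i => (j i).left) cov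
  exact Over.OverMorphism.ext (Scheme.Cover.hom_ext 𝒰 _ _ fun i => congrArg (fun l => l.left) (h i))

include ψD ψ in
theorem exists_scheme :
    ∃ (A : Over (Spec (CommRingCat.of k))) (inj : ∀ W : Finset G, XW m W ⟶ A),
      (∀ W, IsOpenImmersion (inj W).left) ∧ (∀ x : A.left, ∃ W y, (inj W).left y = x) ∧
        ∀ W W' (h : W ⊆ W'), tr m h ≫ inj W' = inj W := by
  classical
  let F : Finset G ⥤ Scheme.{u} :=
    { obj := fun W => (XW m W).left
      map := fun h => (tr m (leOfHom h)).left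
      map_id := fun W => congrArg (fun l => l.left) (tr_refl ψD ψ m W)
      map_comp := fun h h' => congrArg (fun l => l.left) (tr_comp ψD ψ m (leOfHom h) (leOfHom h')).symm }
  haveI : ∀ {i j : Finset G} (f : i ⟶ j), IsOpenImmersion (F.map f) := fun f =>
    (isOpenImmersion_tr ψD ψ m (leOfHom f)).1
  haveI : (F ⋙ Scheme.forget).IsLocallyDirected := by
    refine ⟨fun {i j l} fi fj xi xj hx => ?_⟩
    have hi : i ⊆ l := leOfHom fi
    have hj : j ⊆ l := leOfHom fj
    have hx' : (tr m hi).left xi = (tr m hj).left xj := hx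
    have hmem : (tr m hi).left xi ∈ UW m (i ∩ j) l := by
      intro g hg
      by_cases hgi : g ∈ i
      · have h := tr_mem m hj xj
        rw [← hx'] at h
        exact h g fun hgj => hg (Finset.mem_inter.2 ⟨hgi, hgj⟩)
      · exact tr_mem m hi xi g hgi
    have hij : i ∩ j ⊆ l := Finset.inter_subset_left.trans hi
    obtain ⟨x, hxx⟩ : (tr m hi).left xi ∈ Set.range (tr m hij).left := by
      rw [(isOpenImmersion_tr ψD ψ m hij).2]; exact hmem
    refine ⟨i ∩ j, homOfLE Finset.inter_subset_left, homOfLE Finset.inter_subset_right, x, ?_, ?_⟩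
    · haveI := (isOpenImmersion_tr ψD ψ m hi).1
      refine (tr m hi).left.isOpenEmbedding.injective ?_
      show (tr m (Finset.inter_subset_left (s₁ := i) (s₂ := j)) ≫ tr m hi).left x = _
      rw [tr_comp ψD ψ]
      exact hxx
    · haveI := (isOpenImmersion_tr ψD ψ m hj).1
      refine (tr m hj).left.isOpenEmbedding.injective ?_
      show (tr m (Finset.inter_subset_right (s₁ := i) (s₂ := j)) ≫ tr m hj).left x = _
      rw [tr_comp ψD ψ, ← hx']
      exact hxx
  let c : Cocone F :=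
    { pt := Spec (CommRingCat.of k)
      «ι» :=
      { app := fun W => (XW m W).hom
        naturality := fun W W' h => by
               show (tr m (leOfHom h)).left ≫ (XW m W').hom = (XW m W).hom ≫ 𝟙 _
               rw [Category.comp_id]
               exact Over.w (tr m (leOfHom h)) } }
  refine ⟨Over.mk (colimit.desc F c), fun W => Over.homMk (colimit.ι F W) (colimit.ι_desc c W),
    fun W => inferInstanceAs (IsOpenImmersion (colimit.ι F W)), fun x => ?_, fun W W' h => ?_⟩
  · exact Scheme.IsLocallyDirected.ι_jointly_surjective F x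
  · exact Over.OverMorphism.ext (colimit.w F (homOfLE h))

/-- The data of a representing scheme. -/
structure Glued where
  A : Over (Spec (CommRingCat.of k))
  inj : ∀ W : Finset G, XW m W ⟶ A
  υ : H ⊗ A ⟶ Q
  isOpen : ∀ W, IsOpenImmersion (inj W).left
  cover : ∀ x : A.left, ∃ W y, (inj W).left y = x
  tr_ι : ∀ W W' (h : W ⊆ W'), tr m h ≫ inj W' = inj W
  ι_υ : ∀ W, (H ◁ inj W) ≫ υ = υW ψD ψ m W
  rep : AutFam.RepresentsHom H Q A υ

section Construction

variable {A : Over (Spec (CommRingCat.of k))} (inj : ∀ W : Finset G, XW m W ⟶ A)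
  [∀ W, IsOpenImmersion (inj W).left] (hcov : ∀ x : A.left, ∃ W y, (inj W).left y = x)
  (htr : ∀ W W' (h : W ⊆ W'), tr m h ≫ inj W' = inj W)

include hcov in
theorem whisker_covers (x : (H ⊗ A).left) : ∃ W y, (H ◁ inj W).left y = x := by
  obtain ⟨W, y, hy⟩ := hcov ((snd H A).left x)
  obtain ⟨q, hq⟩ : x ∈ Set.range (H ◁ inj W).left := by
    rw [Over.whiskerLeft_left]
    have := Scheme.Pullback.range_map H.hom (XW m W).hom H.hom A.hom (𝟙 H.left) (inj W).left (𝟙 _)
      (by simp) (by simp)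
    refine (Set.ext_iff.1 this x).2 ⟨⟨_, rfl⟩, ?_⟩
    exact ⟨y, hy.trans rfl⟩
  exact ⟨W, q, hq⟩

include hcov htr in
theorem exists_family : ∃ υ : H ⊗ A ⟶ Q, ∀ W, (H ◁ inj W) ≫ υ = υW ψD ψ m W := by
  classical
  haveI : ∀ W, IsOpenImmersion (H ◁ inj W).left := fun W => whiskerLeft_isOpenImmersion (inj W)
  have hcov' := whisker_covers (H := H) m inj hcov
  refine exists_glue_over (fun W => H ◁ inj W) hcov' (fun W => υW ψD ψ m W) fun W W' P p p' hp => ?_
  have hl := Finset.subset_union_left (s₁ := W) (s₂ := W')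
  have hr := Finset.subset_union_right (s₁ := W) (s₂ := W')
  have e : p ≫ (H ◁ tr m hl) = p' ≫ (H ◁ tr m hr) := by
    haveI : Mono (H ◁ inj (W ∪ W')) := Over.mono_of_mono_left _
    rw [← cancel_mono (H ◁ inj (W ∪ W')), Category.assoc, Category.assoc, ← MonoidalCategory.whiskerLeft_comp,
      ← MonoidalCategory.whiskerLeft_comp, htr, htr]
    exact hp
  rw [← tr_υW ψD ψ m hl, reassoc_of% e, tr_υW]

include hcov in
/-- Points factor through charts near each point. -/
theorem exists_local_factor {T : Over (Spec (CommRingCat.of k))} (a : T ⟶ A) (p : T.left) :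
    ∃ (W : Finset G) (U : T.left.Opens),
      p ∈ U ∧ ∀ {Z : Over (Spec (CommRingCat.of k))} (z : Z ⟶ T), Set.range z.left ⊆ U →
        ∃ b : Z ⟶ XW m W, b ≫ inj W = z ≫ a := by
  obtain ⟨W, y, hy⟩ := hcov (a.left p)
  refine ⟨W, a.left ⁻¹ᵁ (inj W).left.opensRange, ⟨y, hy⟩, fun {Z} z hz => ?_⟩
  have hr : Set.range (z ≫ a).left ⊆ Set.range (inj W).left := by
    rintro _ ⟨q, rfl⟩
    exact hz ⟨q, rfl⟩
  refine ⟨Over.homMk (IsOpenImmersion.lift (inj W).left (z ≫ a).left hr) ?_,
    Over.OverMorphism.ext (IsOpenImmersion.lift_fac _ _ hr)⟩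
  show IsOpenImmersion.lift (inj W).left (z ≫ a).left hr ≫ (XW m W).hom = Z.hom
  rw [← Over.w (inj W), ← Category.assoc, IsOpenImmersion.lift_fac, Over.w]

variable (υ : H ⊗ A ⟶ Q) (hιυ : ∀ W, (H ◁ inj W) ≫ υ = υW ψD ψ m W)

include hcov hιυ in
theorem isHomFamily_glued : AutFam.IsHomFamily H Q υ := fun X g₁ g₂ t => by
  have hloc := fun {T : Over (Spec (CommRingCat.of k))} (a : T ⟶ A) p => exists_local_factor m inj hcov a p
  refine Over.OverMorphism.ext ?_
  choose W U hpU hU using fun p : X.left => hloc t p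
  let 𝒱 : Scheme.OpenCover X.left := Scheme.Cover.mkOfCovers X.left (fun p => (U p : Scheme.{u}))
    (fun p => (U p).ι) fun p => ⟨p, ⟨p, hpU p⟩, rfl⟩
  refine Scheme.Cover.hom_ext 𝒱 _ _ fun p => ?_
  let Z : Over (Spec (CommRingCat.of k)) := Over.mk ((U p).ι ≫ X.hom)
  let z : Z ⟶ X := Over.homMk (U p).ι rfl
  obtain ⟨b, hb⟩ := hU p z (by rintro _ ⟨q, rfl⟩; exact q.2)
  have key : ∀ g : X ⟶ H, z ≫ lift g t ≫ υ = lift (z ≫ g) b ≫ υW ψD ψ m (W p) := fun g => by
    rw [← Category.assoc, comp_lift, ← hb, ← hιυ (W p), lift_whiskerLeft_assoc]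
  have e : z ≫ lift (g₁ * g₂) t ≫ υ = z ≫ ((lift g₁ t ≫ υ) * (lift g₂ t ≫ υ)) := by
    rw [MonObj.comp_mul, key, key, key, MonObj.comp_mul, isHomFamily_υW ψD ψ m (W p)]
  exact congrArg (fun l : Z ⟶ Q => l.left) e

include hcov htr hιυ in
theorem eq_of_family_eq {T : Over (Spec (CommRingCat.of k))} {a a' : T ⟶ A} (h : (H ◁ a) ≫ υ = (H ◁ a') ≫ υ) :
    a = a' := by
  classical
  have hloc := fun {T : Over (Spec (CommRingCat.of k))} (a : T ⟶ A) p => exists_local_factor m inj hcov a p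
  refine Over.OverMorphism.ext ?_
  choose W U hpU hU using fun p : T.left => hloc a p
  choose W' U' hpU' hU' using fun p : T.left => hloc a' p
  let 𝒱 : Scheme.OpenCover T.left := Scheme.Cover.mkOfCovers T.left (fun p => ((U p ⊓ U' p : T.left.Opens) : Scheme.{u}))
    (fun p => (U p ⊓ U' p).ι) fun p => ⟨p, ⟨p, hpU p, hpU' p⟩, rfl⟩
  refine Scheme.Cover.hom_ext 𝒱 _ _ fun p => ?_
  let Z : Over (Spec (CommRingCat.of k)) := Over.mk ((U p ⊓ U' p).ι ≫ T.hom)
  let z : Z ⟶ T := Over.homMk (U p ⊓ U' p).ι rfl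
  obtain ⟨b, hb⟩ := hU p z (by rintro _ ⟨q, rfl⟩; exact q.2.1)
  obtain ⟨b', hb'⟩ := hU' p z (by rintro _ ⟨q, rfl⟩; exact q.2.2)
  have hl := Finset.subset_union_left (s₁ := W p) (s₂ := W' p)
  have hr := Finset.subset_union_right (s₁ := W p) (s₂ := W' p)
  have e : b ≫ tr m hl = b' ≫ tr m hr := eq_of_υW_eq ψD ψ m (W p ∪ W' p) (by
    rw [MonoidalCategory.whiskerLeft_comp, MonoidalCategory.whiskerLeft_comp, Category.assoc, Category.assoc,
      tr_υW, tr_υW, ← hιυ, ← hιυ, ← Category.assoc, ← Category.assoc, ← MonoidalCategory.whiskerLeft_comp,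
      ← MonoidalCategory.whiskerLeft_comp, hb, hb', MonoidalCategory.whiskerLeft_comp,
      MonoidalCategory.whiskerLeft_comp, Category.assoc, Category.assoc, h])
  have e' : z ≫ a = z ≫ a' := by rw [← hb, ← hb', ← htr _ _ hl, ← htr _ _ hr, reassoc_of% e]
  exact congrArg (fun l : Z ⟶ A => l.left) e'

include hcov htr hιυ in
theorem exists_classifying (T : Over (Spec (CommRingCat.of k))) (f : H ⊗ T ⟶ Q) (hf : AutFam.IsHomFamily H Q f) :
    ∃ a : T ⟶ A, (H ◁ a) ≫ υ = f := by
  have huniq := fun {T : Over (Spec (CommRingCat.of k))} (a a' : T ⟶ A) h =>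
    eq_of_family_eq ψD ψ m inj hcov htr υ hιυ (a := a) (a' := a') h
  let 𝒱 := T.left.affineCover
  let Ti : 𝒱.I₀ → Over (Spec (CommRingCat.of k)) := fun i => Over.mk (𝒱.f i ≫ T.hom)
  let j : ∀ i, Ti i ⟶ T := fun i => Over.homMk (𝒱.f i) rfl
  have hl : ∀ i, ∃ a : Ti i ⟶ A, (H ◁ a) ≫ υ = (H ◁ j i) ≫ f := fun i => by
    haveI : IsAffine (Ti i).left := inferInstanceAs (IsAffine (T.left.affineCover.X i))
    obtain ⟨B, _, _, ⟨e⟩⟩ := exists_pt_iso (Ti i)
    obtain ⟨W, hW⟩ := exists_allGood ψD ψ m ((H ◁ (e.hom ≫ j i)) ≫ f)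
    obtain ⟨a, ha, -⟩ := existsUnique_point ψD ψ m W ((H ◁ (e.hom ≫ j i)) ≫ f) (isHomFamily_precomp H Q _ hf) hW
    refine ⟨e.inv ≫ a ≫ inj W, ?_⟩
    rw [MonoidalCategory.whiskerLeft_comp, MonoidalCategory.whiskerLeft_comp, Category.assoc, Category.assoc,
      hιυ, ha, ← Category.assoc, ← MonoidalCategory.whiskerLeft_comp, Iso.inv_hom_id_assoc]
  choose l hl using hl
  haveI : ∀ i, IsOpenImmersion (j i).left := fun i => inferInstanceAs (IsOpenImmersion (T.left.affineCover.f i))
  have covT : ∀ x : T.left, ∃ i y, (j i).left y = x := fun x => ⟨𝒱.idx x, 𝒱.covers x⟩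
  obtain ⟨a, hja⟩ := exists_glue_over j covT l fun i i' P p p' hp => huniq (p ≫ l i) (p' ≫ l i') (by
    rw [MonoidalCategory.whiskerLeft_comp, MonoidalCategory.whiskerLeft_comp, Category.assoc, Category.assoc,
      hl, hl, ← Category.assoc, ← Category.assoc, ← MonoidalCategory.whiskerLeft_comp,
      ← MonoidalCategory.whiskerLeft_comp, hp])
  have ha : (H ◁ a) ≫ υ = f := by
    haveI : ∀ i, IsOpenImmersion (H ◁ j i).left := fun i => whiskerLeft_isOpenImmersion (j i)
    have cov : ∀ x : (H ⊗ T).left, ∃ i y, (H ◁ j i).left y = x := fun x => by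
      obtain ⟨y, hy⟩ := 𝒱.covers ((snd H T).left x)
      obtain ⟨q, hq⟩ : x ∈ Set.range (H ◁ j (𝒱.idx ((snd H T).left x))).left := by
        rw [Over.whiskerLeft_left]
        have := Scheme.Pullback.range_map H.hom (Ti (𝒱.idx ((snd H T).left x))).hom H.hom T.hom (𝟙 H.left)
          (j (𝒱.idx ((snd H T).left x))).left (𝟙 _) (by simp) (by simp)
        exact (Set.ext_iff.1 this x).2 ⟨⟨_, rfl⟩, ⟨y, hy.trans rfl⟩⟩
      exact ⟨_, q, hq⟩
    refine eq_of_cover_over (fun i => H ◁ j i) cov fun i => ?_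
    rw [← Category.assoc, ← MonoidalCategory.whiskerLeft_comp, hja, hl]
  exact ⟨a, ha⟩

end Construction

theorem nonempty_glued : Nonempty (Glued ψD ψ m) := by
  obtain ⟨A, inj, hι, hcov, htr⟩ := exists_scheme ψD ψ m
  haveI := hι
  obtain ⟨υ, hιυ⟩ := exists_family ψD ψ m inj hcov htr
  refine ⟨⟨A, inj, υ, hι, hcov, htr, hιυ, isHomFamily_glued ψD ψ m inj hcov υ hιυ, fun T f hf => ?_⟩⟩
  obtain ⟨a, ha⟩ := exists_classifying ψD ψ m inj hcov htr υ hιυ T f hf
  exact ⟨a, ha, fun a' ha' => eq_of_family_eq ψD ψ m inj hcov htr υ hιυ (ha'.trans ha.symm)⟩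

end Groth.Agent.Const38.HomDS
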