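import Groth.Agent.FlatMor68.StageIso

/-!
Generators of a smooth bialgebra spanning a module stable under comultiplication.
-/

set_option autoImplicit false
set_option backward.isDefEq.respectTransparency false
set_option backward.isDefEq.respectTransparency.types false
set_option linter.style.haveILetI false
set_option maxSynthPendingDepth 5
universe u

open TensorProduct Algebra.TensorProduct

noncomputable section

namespace Groth.Agent.Const38.HomDS

/-- Finitely many generators of the algebra whose comultiplications have their left factors in their span. -/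
structure Model (k C : Type u) [CommRing k] [CommRing C] [Bialgebra k C] where
  n : ℕ
  x : Fin n → C
  a : Fin n → Fin n → C
  comul_x : ∀ i, CoalgebraStruct.comul (R := k) (x i) = ∑ l, x l ⊗ₜ[k] a i l
  adjoin_eq : Algebra.adjoin k (Set.range x) = ⊤

namespace Stage

variable {R k C C0 : Type u} [CommRing R] [CommRing k] [CommRing C] [CommRing C0]
  [Algebra R k] [Algebra R C] [Algebra R C0] [Bialgebra k C] [IsScalarTower R k C]

variable (R C0) in
abbrev V (S : Type u) [CommRing S] [Algebra R S] : Type u := S ⊗[R] C0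

variable (R C0) in
abbrev V2 (S : Type u) [CommRing S] [Algebra R S] : Type u := (S ⊗[R] C0) ⊗[R] C0

variable (R C0) in
abbrev V3 (S : Type u) [CommRing S] [Algebra R S] : Type u := ((S ⊗[R] C0) ⊗[R] C0) ⊗[R] C0

variable {S S' : Type u} [CommRing S] [Algebra R S] [CommRing S'] [Algebra R S']

abbrev push1 (j : S →ₐ[R] S') : V R C0 S →ₐ[R] V R C0 S' := map j (AlgHom.id R C0)
abbrev push2 (j : S →ₐ[R] S') : V2 R C0 S →ₐ[R] V2 R C0 S' := map (push1 j) (AlgHom.id R C0)
abbrev push3 (j : S →ₐ[R] S') : V3 R C0 S →ₐ[R] V3 R C0 S' := map (push2 j) (AlgHom.id R C0)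

abbrev conv2 (S : Type u) [CommRing S] [Algebra R S] : S ⊗[R] (C0 ⊗[R] C0) ≃ₐ[R] V2 R C0 S :=
  (Algebra.TensorProduct.assoc R R R S C0 C0).symm

abbrev conv3 (S : Type u) [CommRing S] [Algebra R S] : S ⊗[R] ((C0 ⊗[R] C0) ⊗[R] C0) ≃ₐ[R] V3 R C0 S :=
  (Algebra.TensorProduct.assoc R R R S (C0 ⊗[R] C0) C0).symm.trans
    (Algebra.TensorProduct.congr (conv2 S) AlgEquiv.refl)

theorem conv2_natural (j : S →ₐ[R] S') (z : S ⊗[R] (C0 ⊗[R] C0)) :
    push2 j (conv2 S z) = conv2 S' (map j (AlgHom.id R _) z) := by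
  induction z using TensorProduct.induction_on with
  | zero => simp
  | add p q hp hq => simp only [map_add, hp, hq]
  | tmul s t =>
    induction t using TensorProduct.induction_on with
    | zero => simp
    | add p q hp hq => simp only [TensorProduct.tmul_add, map_add, hp, hq]
    | tmul a b => simp

theorem conv3_natural (j : S →ₐ[R] S') (z : S ⊗[R] ((C0 ⊗[R] C0) ⊗[R] C0)) :
    push3 j (conv3 S z) = conv3 S' (map j (AlgHom.id R _) z) := by
  induction z using TensorProduct.induction_on with
  | zero => simp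
  | add p q hp hq => simp only [map_add, hp, hq]
  | tmul s t =>
    induction t using TensorProduct.induction_on with
    | zero => simp
    | add p q hp hq => simp only [TensorProduct.tmul_add, map_add, hp, hq]
    | tmul a b =>
      induction a using TensorProduct.induction_on with
      | zero => simp
      | add p q hp hq => simp only [TensorProduct.add_tmul, TensorProduct.tmul_add, map_add, hp, hq]
      | tmul a a' => simp [conv3, conv2]

/-- The extension of a comultiplication at a stage. -/
def δ (g : C0 →ₐ[R] V2 R C0 S) : V R C0 S →ₐ[R] V2 R C0 S :=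
  lift (includeLeft.comp includeLeft) g (fun _ _ => Commute.all _ _)

def sh : V2 R C0 S →ₐ[R] V3 R C0 S := map (map includeLeft (AlgHom.id R C0)) (AlgHom.id R C0)

def Lm (g : C0 →ₐ[R] V2 R C0 S) : V2 R C0 S →ₐ[R] V3 R C0 S := map (δ g) (AlgHom.id R C0)

def Rm (g : C0 →ₐ[R] V2 R C0 S) : V2 R C0 S →ₐ[R] V3 R C0 S :=
  lift (includeLeft.comp includeLeft) (sh.comp g) (fun _ _ => Commute.all (S := V3 R C0 S) _ _)

theorem δ_tmul (g : C0 →ₐ[R] V2 R C0 S) (s : S) (c : C0) :
    δ g (s ⊗ₜ c) = ((s ⊗ₜ 1) ⊗ₜ 1) * g c := by simp [δ]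

theorem δ_natural (j : S →ₐ[R] S') (g : C0 →ₐ[R] V2 R C0 S) (v : V R C0 S) :
    push2 j (δ g v) = δ ((push2 j).comp g) (push1 j v) := by
  induction v using TensorProduct.induction_on with
  | zero => simp
  | add p q hp hq => simp only [map_add, hp, hq]
  | tmul s c => simp [δ_tmul]

theorem Lm_natural (j : S →ₐ[R] S') (g : C0 →ₐ[R] V2 R C0 S) (v : V2 R C0 S) :
    push3 j (Lm g v) = Lm ((push2 j).comp g) (push2 j v) := by
  induction v using TensorProduct.induction_on with
  | zero => simp
  | add p q hp hq => simp only [map_add, hp, hq]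
  | tmul v c => simp [Lm, δ_natural]

theorem sh_natural (j : S →ₐ[R] S') (v : V2 R C0 S) : push3 j (sh v) = sh (push2 j v) := by
  induction v using TensorProduct.induction_on with
  | zero => simp
  | add p q hp hq => simp only [map_add, hp, hq]
  | tmul v c =>
    induction v using TensorProduct.induction_on with
    | zero => simp
    | add p q hp hq => simp only [TensorProduct.add_tmul, map_add, hp, hq]
    | tmul s c' => simp [sh]

theorem Rm_natural (j : S →ₐ[R] S') (g : C0 →ₐ[R] V2 R C0 S) (v : V2 R C0 S) :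
    push3 j (Rm g v) = Rm ((push2 j).comp g) (push2 j v) := by
  induction v using TensorProduct.induction_on with
  | zero => simp
  | add p q hp hq => simp only [map_add, hp, hq]
  | tmul v c => simp [Rm, sh_natural]

section Subcomodule

variable {D : Type u} [CommRing D] [Algebra R D] (g : C0 →ₐ[R] V2 R C0 D)

theorem δ_smul (d : D) (v : V R C0 D) : δ g (d • v) = ((d ⊗ₜ 1) ⊗ₜ 1) * δ g v := by
  have : d • v = (d ⊗ₜ (1 : C0)) * v := by rw [Algebra.smul_def]; rfl
  rw [this, map_mul, δ_tmul, map_one, mul_one]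

theorem rTensor_range_mul (M' : Submodule D (V R C0 D)) (d : D) {y : V2 R C0 D}
    (hy : y ∈ LinearMap.range ((M'.restrictScalars R).subtype.rTensor C0)) :
    ((d ⊗ₜ 1) ⊗ₜ 1) * y ∈ LinearMap.range ((M'.restrictScalars R).subtype.rTensor C0) := by
  obtain ⟨z, rfl⟩ := hy
  induction z using TensorProduct.induction_on with
  | zero => simp
  | add p q hp hq => rw [map_add, mul_add]; exact Submodule.add_mem _ hp hq
  | tmul m c =>
    refine ⟨(⟨d • (m : V R C0 D), M'.smul_mem d m.2⟩ : M'.restrictScalars R) ⊗ₜ c, ?_⟩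
    simp only [LinearMap.rTensor_tmul, Submodule.coe_subtype, Algebra.TensorProduct.tmul_mul_tmul, one_mul]
    congr 1
    rw [Algebra.smul_def]; rfl

theorem range_rTensor_mono {M N : Submodule D (V R C0 D)} (h : M ≤ N) :
    LinearMap.range ((M.restrictScalars R).subtype.rTensor C0) ≤
      LinearMap.range ((N.restrictScalars R).subtype.rTensor C0) := by
  rw [show (M.restrictScalars R).subtype = (N.restrictScalars R).subtype ∘ₗ
    Submodule.inclusion (show M.restrictScalars R ≤ N.restrictScalars R from h) from rfl, LinearMap.rTensor_comp]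
  exact LinearMap.range_comp_le_range _ _

/-- A finitely generated submodule stable under the comultiplication of a stage. -/
theorem exists_stable [IsNoetherianRing D] [Module.Flat R C0] (hg : ∀ c, Lm g (g c) = Rm g (g c))
    (s : Finset (V R C0 D)) :
    ∃ W : Submodule D (V R C0 D), W.FG ∧ (s : Set (V R C0 D)) ⊆ W ∧
      ∀ w ∈ W, δ g w ∈ LinearMap.range ((W.restrictScalars R).subtype.rTensor C0) := by
  classical
  have hcoef : ∀ y : V2 R C0 D, ∃ P : Submodule D (V R C0 D), P.FG ∧
      y ∈ LinearMap.range ((P.restrictScalars R).subtype.rTensor C0) := fun y => by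
    obtain ⟨t, ht⟩ := TensorProduct.exists_finset y
    refine ⟨Submodule.span D (t.image Prod.fst : Finset (V R C0 D)), ⟨_, rfl⟩, ?_⟩
    rw [ht]
    exact Submodule.sum_mem _ fun p hp => ⟨(⟨p.1, Submodule.subset_span (by
      simp only [Finset.coe_image]; exact ⟨p, hp, rfl⟩)⟩ : ↥((Submodule.span D
        ((t.image Prod.fst : Finset (V R C0 D)) : Set (V R C0 D))).restrictScalars R)) ⊗ₜ[R] p.2, by simp⟩
  choose P hP hPy using hcoef
  let M' : Submodule D (V R C0 D) := Submodule.span D (s : Set (V R C0 D)) ⊔ s.sup fun m => P (δ g m)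
  have hM' : M'.FG := (Submodule.fg_span s.finite_toSet).sup
    (Finset.sup_induction Submodule.fg_bot (fun a ha b hb => ha.sup hb) fun m _ => hP _)
  let N := LinearMap.range ((M'.restrictScalars R).subtype.rTensor C0)
  let W : Submodule D (V R C0 D) :=
    { carrier := {v | v ∈ M' ∧ δ g v ∈ N}
      zero_mem' := ⟨M'.zero_mem, by rw [map_zero]; exact N.zero_mem⟩
      add_mem' := fun {a b} ha hb => ⟨M'.add_mem ha.1 hb.1, by rw [map_add]; exact N.add_mem ha.2 hb.2⟩
      smul_mem' := fun d v hv => ⟨M'.smul_mem d hv.1, by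
        rw [δ_smul]; exact rTensor_range_mul M' d hv.2⟩ }
  refine ⟨W, hM'.of_le fun v hv => hv.1, fun m hm => ⟨Submodule.mem_sup_left (Submodule.subset_span hm),
    range_rTensor_mono (le_sup_of_le_right (Finset.le_sup (f := fun m => P (δ g m)) hm)) (hPy _)⟩, ?_⟩
  intro w hw
  let M₀ := M'.restrictScalars R
  let q₀ : V R C0 D →ₗ[R] (V R C0 D ⧸ M₀) := M₀.mkQ
  let q₁ : V R C0 D →ₗ[R] (V R C0 D ⧸ M₀) ⊗[R] C0 := M₀.mkQ.rTensor C0 ∘ₗ (δ g).toLinearMap
  have hq₀ : ∀ y : V2 R C0 D, y ∈ N ↔ M₀.mkQ.rTensor C0 y = 0 := fun y =>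
    ((rTensor_exact C0 (LinearMap.exact_subtype_mkQ M₀) (Submodule.mkQ_surjective M₀)) y).symm
  let q := q₀.prod q₁
  have hker : LinearMap.ker q = W.restrictScalars R := by
    ext v
    simp only [q, LinearMap.mem_ker, LinearMap.prod_apply, Function.prod_apply, Prod.mk_eq_zero,
      Submodule.restrictScalars_mem]
    simp only [q₀, q₁, Submodule.mkQ_apply, Submodule.Quotient.mk_eq_zero, LinearMap.comp_apply, ← hq₀]
    rfl
  have hexact : Function.Exact ((LinearMap.ker q).subtype.rTensor C0) (q.rTensor C0) :=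
    Module.Flat.rTensor_exact C0 (LinearMap.exact_subtype_ker_map q)
  have h0 : q.rTensor C0 (δ g w) = 0 := by
    apply (TensorProduct.prodLeft R R (V R C0 D ⧸ M₀) ((V R C0 D ⧸ M₀) ⊗[R] C0) C0).injective
    have h1 : ∀ y : V2 R C0 D, (TensorProduct.prodLeft R R (V R C0 D ⧸ M₀) ((V R C0 D ⧸ M₀) ⊗[R] C0) C0)
        (q.rTensor C0 y) = (q₀.rTensor C0 y, q₁.rTensor C0 y) := fun y => by
      induction y using TensorProduct.induction_on with
      | zero => simp [Prod.zero_eq_mk]
      | add a b ha hb => simp only [map_add, ha, hb]; rfl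
      | tmul a b => simp [q]
    rw [h1, map_zero, Prod.mk_eq_zero]
    refine ⟨(hq₀ _).1 hw.2, ?_⟩
    have h2 : q₁.rTensor C0 (δ g w) = (M₀.mkQ.rTensor C0).rTensor C0 (Lm g (δ g w)) := by
      simp only [q₁, LinearMap.rTensor_comp, LinearMap.comp_apply]
      rfl
    have h3 : Lm g (δ g w) = Rm g (δ g w) := by
      generalize (w : V R C0 D) = v
      induction v using TensorProduct.induction_on with
      | zero => simp
      | add a b ha hb => simp only [map_add, ha, hb]
      | tmul d c =>
        rw [δ_tmul, map_mul, map_mul, hg]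
        congr 1
        simp [Lm, Rm, δ_tmul]
    rw [h2, h3]
    obtain ⟨z, hz⟩ := hw.2
    rw [← hz]
    clear hz
    induction z using TensorProduct.induction_on with
    | zero => simp
    | add a b ha hb => simp only [map_add, ha, hb, add_zero]
    | tmul m c =>
      rw [LinearMap.rTensor_tmul]
      have h4 : Rm g ((m : V R C0 D) ⊗ₜ c) = (((m : V R C0 D) ⊗ₜ 1) ⊗ₜ 1) * sh (g c) := by simp [Rm]
      rw [show Rm g ((M₀.subtype m) ⊗ₜ c) = _ from h4]
      generalize g c = t
      induction t using TensorProduct.induction_on with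
      | zero => simp
      | add a b ha hb => simp only [map_add, mul_add, ha, hb, add_zero]
      | tmul v c' =>
        induction v using TensorProduct.induction_on with
        | zero => simp
        | add a b ha hb => simp only [TensorProduct.add_tmul, map_add, mul_add, ha, hb, add_zero]
        | tmul d c'' =>
          have hm : (d ⊗ₜ (1 : C0)) * (m : V R C0 D) ∈ M₀ := by
            have := M'.smul_mem d m.2
            rwa [Algebra.smul_def] at this
          simp only [sh, Algebra.TensorProduct.map_tmul, AlgHom.id_apply, includeLeft_apply, tmul_mul_tmul, one_mul,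
            LinearMap.rTensor_tmul, Submodule.mkQ_apply]
          rw [mul_comm, (Submodule.Quotient.mk_eq_zero M₀).2 hm, TensorProduct.zero_tmul, TensorProduct.zero_tmul]
  rw [hker] at hexact
  exact (hexact _).1 h0

end Subcomodule

section Top

variable (e : C ≃ₐ[k] k ⊗[R] C0)

abbrev ι : C0 →ₐ[R] C := (e.symm.toAlgHom.restrictScalars R).comp includeRight

abbrev γ1 : V R C0 k →ₐ[R] C := e.symm.toAlgHom.restrictScalars R

def γ2 : V2 R C0 k →ₐ[R] C ⊗[k] C :=
  lift (((includeLeft : C →ₐ[k] C ⊗[k] C).restrictScalars R).comp (γ1 e))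
    (((includeRight : C →ₐ[k] C ⊗[k] C).restrictScalars R).comp (ι e)) (fun _ _ => Commute.all _ _)

def β2 : C ⊗[k] C →ₐ[k] V2 R C0 k :=
  lift ((includeLeft : V R C0 k →ₐ[k] V2 R C0 k).comp e.toAlgHom)
    ((map (Algebra.ofId k (V R C0 k)) (AlgHom.id R C0)).comp e.toAlgHom) (fun _ _ => Commute.all _ _)

def γ3 : V3 R C0 k →ₐ[R] (C ⊗[k] C) ⊗[k] C :=
  lift (((includeLeft : C ⊗[k] C →ₐ[k] (C ⊗[k] C) ⊗[k] C).restrictScalars R).comp (γ2 e))
    (((includeRight : C →ₐ[k] (C ⊗[k] C) ⊗[k] C).restrictScalars R).comp (ι e)) (fun _ _ => Commute.all _ _)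

def β3 : (C ⊗[k] C) ⊗[k] C →ₐ[k] V3 R C0 k :=
  lift ((includeLeft : V2 R C0 k →ₐ[k] V3 R C0 k).comp (β2 e))
    ((map (Algebra.ofId k (V2 R C0 k)) (AlgHom.id R C0)).comp e.toAlgHom) (fun _ _ => Commute.all (S := V3 R C0 k) _ _)

theorem β2_γ2 (z : V2 R C0 k) : β2 e (γ2 e z) = z := by
  induction z using TensorProduct.induction_on with
  | zero => simp
  | add a b ha hb => simp only [map_add, ha, hb]
  | tmul v c => simp [β2, γ2, ← Algebra.TensorProduct.one_def]

theorem β3_γ3 (z : V3 R C0 k) : β3 e (γ3 e z) = z := by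
  induction z using TensorProduct.induction_on with
  | zero => simp
  | add a b ha hb => simp only [map_add, ha, hb]
  | tmul v c => simp [β3, γ3, β2_γ2, ← Algebra.TensorProduct.one_def]

theorem γ2_β2 (z : C ⊗[k] C) : γ2 e (β2 e z) = z := by
  induction z using TensorProduct.induction_on with
  | zero => simp
  | add a b ha hb => simp only [map_add, ha, hb]
  | tmul a b =>
    obtain ⟨b, rfl⟩ := e.symm.surjective b
    simp only [β2, lift_tmul, map_mul, AlgHom.comp_apply, AlgEquiv.toAlgHom_apply, AlgEquiv.apply_symm_apply]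
    have h1 : γ2 e ((includeLeft : V R C0 k →ₐ[k] V2 R C0 k) (e a)) = a ⊗ₜ 1 := by
      simp [γ2, ← Algebra.TensorProduct.one_def]
    have h2 : γ2 e (map (Algebra.ofId k (V R C0 k)) (AlgHom.id R C0) b) = 1 ⊗ₜ e.symm b := by
      induction b using TensorProduct.induction_on with
      | zero => simp
      | add a b ha hb => simp only [map_add, TensorProduct.tmul_add, ha, hb]
      | tmul d c =>
        have hd : e.symm (algebraMap k (k ⊗[R] C0) d) = algebraMap k C d := e.symm.commutes d
        have hdc : e.symm (d ⊗ₜ c) = d • e.symm (1 ⊗ₜ c) := by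
          rw [← map_smul, TensorProduct.smul_tmul', smul_eq_mul, mul_one]
        simp only [γ2, Algebra.TensorProduct.map_tmul, AlgHom.id_apply, lift_tmul, AlgHom.comp_apply, AlgHom.restrictScalars_apply,
          Algebra.ofId_apply, includeLeft_apply, includeRight_apply, AlgEquiv.toAlgHom_apply, hd, hdc,
          tmul_mul_tmul, one_mul, mul_one, Algebra.algebraMap_eq_smul_one, map_smul, map_one, TensorProduct.smul_tmul]
        simp [TensorProduct.smul_tmul]
    rw [h1, h2, tmul_mul_tmul, mul_one, one_mul]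

theorem γ2_δ (g : C0 →ₐ[R] V2 R C0 k)
    (hg : ∀ c, γ2 e (g c) = CoalgebraStruct.comul (R := k) (ι e c)) (v : V R C0 k) :
    γ2 e (δ g v) = CoalgebraStruct.comul (R := k) (γ1 e v) := by
  induction v using TensorProduct.induction_on with
  | zero => simp
  | add a b ha hb => simp only [map_add, ha, hb]
  | tmul d c =>
    have hdc : γ1 e (d ⊗ₜ c) = d • ι e c := by
      show e.symm (d ⊗ₜ c) = d • e.symm (1 ⊗ₜ c)
      rw [← map_smul, TensorProduct.smul_tmul', smul_eq_mul, mul_one]
    have hd1 : γ1 e (d ⊗ₜ 1) = algebraMap k C d := e.symm.commutes d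
    rw [δ_tmul, map_mul, hg, hdc, map_smul, Algebra.smul_def]
    congr 1
    simp only [γ2, lift_tmul, AlgHom.comp_apply, AlgHom.restrictScalars_apply, hd1, map_one, mul_one]
    rfl

theorem γ3_Lm (g : C0 →ₐ[R] V2 R C0 k)
    (hg : ∀ c, γ2 e (g c) = CoalgebraStruct.comul (R := k) (ι e c)) (v : V2 R C0 k) :
    γ3 e (Lm g v) = (CoalgebraStruct.comul (R := k) (A := C)).rTensor C (γ2 e v) := by
  induction v using TensorProduct.induction_on with
  | zero => simp
  | add a b ha hb => simp only [map_add, ha, hb]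
  | tmul v c =>
    have h0 : ∀ x, γ3 e (x ⊗ₜ c) = γ2 e x ⊗ₜ ι e c := fun x => by simp [γ3]
    have h1 : γ2 e (v ⊗ₜ c) = γ1 e v ⊗ₜ ι e c := by simp [γ2]
    rw [show Lm g (v ⊗ₜ c) = δ g v ⊗ₜ c from by simp [Lm], h0, h1, LinearMap.rTensor_tmul, γ2_δ e g hg]

theorem γ3_sh (z : V2 R C0 k) :
    γ3 e (sh z) = (TensorProduct.assoc k C C C).symm ((1 : C) ⊗ₜ γ2 e z) := by
  induction z using TensorProduct.induction_on with
  | zero => simp
  | add a b ha hb => simp only [map_add, TensorProduct.tmul_add, ha, hb]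
  | tmul v c =>
    induction v using TensorProduct.induction_on with
    | zero => simp
    | add a b ha hb => simp only [TensorProduct.add_tmul, map_add, TensorProduct.tmul_add, ha, hb]
    | tmul d c' =>
      have hdc : e.symm (d ⊗ₜ c') = d • e.symm (1 ⊗ₜ c') := by
        rw [← map_smul, TensorProduct.smul_tmul', smul_eq_mul, mul_one]
      have hd1 : e.symm (d ⊗ₜ (1 : C0)) = algebraMap k C d := e.symm.commutes d
      simp [sh, γ3, γ2, hdc, hd1, Algebra.algebraMap_eq_smul_one, TensorProduct.smul_tmul]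

theorem γ3_Rm (g : C0 →ₐ[R] V2 R C0 k)
    (hg : ∀ c, γ2 e (g c) = CoalgebraStruct.comul (R := k) (ι e c)) (v : V2 R C0 k) :
    γ3 e (Rm g v) = (TensorProduct.assoc k C C C).symm
      ((CoalgebraStruct.comul (R := k) (A := C)).lTensor C (γ2 e v)) := by
  induction v using TensorProduct.induction_on with
  | zero => simp
  | add a b ha hb => simp only [map_add, ha, hb]
  | tmul v c =>
    have h1 : γ2 e (v ⊗ₜ c) = γ1 e v ⊗ₜ ι e c := by simp [γ2]
    have h2 : γ3 e ((v ⊗ₜ 1) ⊗ₜ 1) = (γ1 e v ⊗ₜ 1) ⊗ₜ 1 := by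
      simp [γ3, γ2, ← Algebra.TensorProduct.one_def]
    have h3 : Rm g (v ⊗ₜ c) = ((v ⊗ₜ 1) ⊗ₜ 1) * sh (g c) := by simp [Rm]
    rw [h3, map_mul, γ3_sh, hg, h1, h2, LinearMap.lTensor_tmul]
    generalize CoalgebraStruct.comul (R := k) (ι e c) = t
    induction t using TensorProduct.induction_on with
    | zero => simp
    | add a b ha hb => simp only [TensorProduct.tmul_add, map_add, mul_add, ha, hb]
    | tmul a b => simp

/-- A stage carrying a coassociative comultiplication. -/
theorem exists_stage [Algebra.FinitePresentation R C0] :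
    ∃ (D : Subalgebra R k), D.FG ∧ ∃ g : C0 →ₐ[R] V2 R C0 D,
      (∀ c, γ2 e (push2 D.val (g c)) = CoalgebraStruct.comul (R := k) (ι e c)) ∧
      ∀ c, Lm g (g c) = Rm g (g c) := by
  classical
  let f : C0 →ₐ[R] V2 R C0 k :=
    (((β2 e).comp (Bialgebra.comulAlgHom k C)).restrictScalars R).comp (ι e)
  have hf : ∀ c, γ2 e (f c) = CoalgebraStruct.comul (R := k) (ι e c) := fun c => γ2_β2 e _
  obtain ⟨D, hD, ψ, hψ⟩ := FlatMor68.StageIso.exists_hom_stage
    ((conv2 (R := R) (C0 := C0) k).symm.toAlgHom.comp f)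
  let g0 : C0 →ₐ[R] V2 R C0 D := (conv2 (R := R) (C0 := C0) D).toAlgHom.comp ψ
  have hg0 : (push2 D.val).comp g0 = f := by
    ext c
    have := congrArg (conv2 k) (AlgHom.congr_fun hψ c)
    simp only [AlgHom.comp_apply, AlgEquiv.toAlgHom_apply, AlgEquiv.apply_symm_apply] at this
    simp only [g0, AlgHom.comp_apply, AlgEquiv.toAlgHom_apply, conv2_natural]
    exact this
  obtain ⟨m, π, hπ, -⟩ := (inferInstance : Algebra.FinitePresentation R C0).out
  let c₀ := fun i : Fin m => π (MvPolynomial.X i)
  obtain ⟨D', hDD', hD', heq⟩ := FlatMor68.StageIso.exists_eq_stage_finset (Finset.univ : Finset (Fin m)) hD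
    (fun i => (conv3 (R := R) (C0 := C0) D).symm (Lm g0 (g0 (c₀ i)))) (fun i => (conv3 (R := R) (C0 := C0) D).symm (Rm g0 (g0 (c₀ i)))) fun i _ => by
      apply (conv3 (R := R) (C0 := C0) k).injective
      rw [← conv3_natural, ← conv3_natural, AlgEquiv.apply_symm_apply, AlgEquiv.apply_symm_apply,
        Lm_natural, Rm_natural, hg0]
      have h1 : push2 D.val (g0 (c₀ i)) = f (c₀ i) := AlgHom.congr_fun hg0 _
      rw [h1]
      apply Function.LeftInverse.injective (β3_γ3 e)
      rw [γ3_Lm e f hf, γ3_Rm e f hf, hf, Coalgebra.coassoc_symm_apply]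
  let g : C0 →ₐ[R] V2 R C0 D' := (push2 (Subalgebra.inclusion hDD')).comp g0
  refine ⟨D', hD', g, fun c => ?_, ?_⟩
  · rw [← hf, ← hg0]
    congr 1
    show push2 D'.val (push2 (Subalgebra.inclusion hDD') (g0 c)) = push2 D.val (g0 c)
    generalize g0 c = t
    induction t using TensorProduct.induction_on with
    | zero => simp
    | add a b ha hb => simp only [map_add, ha, hb]
    | tmul v c =>
      induction v using TensorProduct.induction_on with
      | zero => simp
      | add a b ha hb => simp only [TensorProduct.add_tmul, map_add, ha, hb]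
      | tmul d c' => simp
  · suffices h : (Lm g).comp g = (Rm g).comp g from fun c => AlgHom.congr_fun h c
    rw [← AlgHom.cancel_right hπ]
    refine MvPolynomial.algHom_ext fun i => ?_
    have h := congrArg (conv3 D') (heq i (Finset.mem_univ i))
    rw [← conv3_natural, ← conv3_natural, AlgEquiv.apply_symm_apply, AlgEquiv.apply_symm_apply,
      Lm_natural, Rm_natural] at h
    exact h

end Top

end Stage

open Stage in
theorem exists_model_of_descent {R k C C0 : Type u} [CommRing R] [CommRing k] [CommRing C] [CommRing C0]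
    [Algebra R k] [Algebra R C] [Algebra R C0] [Bialgebra k C] [IsScalarTower R k C] [IsNoetherianRing R]
    [Algebra.FinitePresentation R C0] [Module.Flat R C0] (e : C ≃ₐ[k] k ⊗[R] C0) :
    Nonempty (Model k C) := by
  classical
  obtain ⟨D, hD, g, hg, hco⟩ := exists_stage e
  haveI : Algebra.FiniteType R D := (Subalgebra.fg_iff_finiteType D).mp hD
  haveI : IsNoetherianRing D := Algebra.FiniteType.isNoetherianRing R D
  obtain ⟨m, π, hπ, -⟩ := (inferInstance : Algebra.FinitePresentation R C0).out
  obtain ⟨W, ⟨t, ht⟩, hsW, hW⟩ := exists_stable g hco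
    (Finset.univ.image fun i : Fin m => (1 : D) ⊗ₜ[R] π (MvPolynomial.X i))
  let p : V R C0 D →ₐ[R] C := (γ1 e).comp (push1 D.val)
  let x : Fin t.card → C := fun l => p ((t.equivFin.symm l : V R C0 D))
  let L : (Fin t.card → C) →ₗ[k] C ⊗[k] C :=
    ∑ l, (TensorProduct.mk k C C (x l)) ∘ₗ LinearMap.proj l
  have hpsm : ∀ (d : D) (v : V R C0 D), p (d • v) = (d : k) • p v := fun d v => by
    rw [Algebra.smul_def, map_mul, Algebra.smul_def]
    congr 1
    exact e.symm.commutes (d : k)
  have hspan : ∀ w ∈ W, p w ∈ Submodule.span k (Set.range x) := fun w hw => by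
    rw [← ht] at hw
    induction hw using Submodule.span_induction with
    | mem v hv => exact Submodule.subset_span ⟨t.equivFin ⟨v, hv⟩, by simp [x]⟩
    | zero => simp
    | add a b _ _ ha hb => rw [map_add]; exact Submodule.add_mem _ ha hb
    | smul d v _ hv => rw [hpsm]; exact Submodule.smul_mem _ _ hv
  have hL : ∀ y ∈ Submodule.span k (Set.range x), ∀ b : C, y ⊗ₜ[k] b ∈ LinearMap.range L := fun y hy b => by
    induction hy using Submodule.span_induction with
    | mem v hv =>
      obtain ⟨l, rfl⟩ := hv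
      exact ⟨Pi.single l b, by
        simp only [L, LinearMap.sum_apply, LinearMap.comp_apply, LinearMap.proj_apply, TensorProduct.mk_apply]
        rw [Finset.sum_eq_single l] <;> simp +contextual⟩
    | zero => simp
    | add a c _ _ ha hc => rw [TensorProduct.add_tmul]; exact Submodule.add_mem _ ha hc
    | smul d v _ hv => rw [← TensorProduct.smul_tmul']; exact Submodule.smul_mem _ _ hv
  have hcomul : ∀ i, ∃ a : Fin t.card → C, CoalgebraStruct.comul (R := k) (x i) = L a := fun i => by
    have hw : (t.equivFin.symm i : V R C0 D) ∈ W :=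
      ht.le (Submodule.subset_span (t.equivFin.symm i).2)
    obtain ⟨z, hz⟩ := hW _ hw
    suffices h : CoalgebraStruct.comul (R := k) (x i) ∈ LinearMap.range L by
      obtain ⟨a, ha⟩ := h; exact ⟨a, ha.symm⟩
    have h1 : CoalgebraStruct.comul (R := k) (x i) = γ2 e (push2 D.val (δ g (t.equivFin.symm i : V R C0 D))) := by
      rw [δ_natural, γ2_δ e _ hg]; rfl
    rw [h1, ← hz]
    clear hz
    induction z using TensorProduct.induction_on with
    | zero => simp
    | add a b ha hb => simp only [map_add]; exact Submodule.add_mem _ ha hb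
    | tmul w c =>
      have h2 : γ2 e (push2 D.val ((W.restrictScalars R).subtype.rTensor C0 (w ⊗ₜ c))) = p w ⊗ₜ ι e c := by
        simp [γ2, p]
      rw [h2]
      exact hL _ (hspan _ w.2) _
  choose a ha using hcomul
  refine ⟨{ n := t.card, x := x, a := a, comul_x := fun i => (ha i).trans (by simp [L]), adjoin_eq := ?_ }⟩
  rw [eq_top_iff]
  rintro y -
  obtain ⟨z, rfl⟩ := e.symm.surjective y
  induction z using TensorProduct.induction_on with
  | zero => simp
  | add p q hp hq => rw [map_add]; exact Subalgebra.add_mem _ hp hq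
  | tmul d c =>
    obtain ⟨c, rfl⟩ := hπ c
    have hdc : e.symm (d ⊗ₜ π c) = d • e.symm (1 ⊗ₜ π c) := by
      rw [← map_smul, TensorProduct.smul_tmul', smul_eq_mul, mul_one]
    rw [hdc]
    refine Subalgebra.smul_mem _ ?_ d
    have hle : ((ι e).comp π).range ≤ (Algebra.adjoin k (Set.range x)).restrictScalars R := by
      rw [← Algebra.map_top, ← MvPolynomial.adjoin_range_X, AlgHom.map_adjoin, Algebra.adjoin_le_iff]
      rintro _ ⟨_, ⟨i, rfl⟩, rfl⟩
      have hw : (1 : D) ⊗ₜ[R] π (MvPolynomial.X i) ∈ W := hsW (by simp)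
      exact Algebra.span_le_adjoin k (Set.range x) (by simpa [p] using hspan _ hw)
    exact hle ⟨c, rfl⟩

/-- A smooth bialgebra has a model. -/
theorem exists_model (k C : Type u) [CommRing k] [CommRing C] [Bialgebra k C] [Algebra.Smooth k C] :
    Nonempty (Model k C) := by
  obtain ⟨A₀, C0, _, _, hA₀, hsm, ⟨e⟩⟩ := Algebra.Smooth.exists_subalgebra_fg ℤ k C
  haveI := hsm
  haveI : Algebra.FiniteType ℤ A₀ := (Subalgebra.fg_iff_finiteType A₀).mp hA₀
  haveI : IsNoetherianRing A₀ := Algebra.FiniteType.isNoetherianRing ℤ A₀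
  haveI : Module.Flat A₀ C0 := Algebra.Smooth.flat A₀ C0
  exact exists_model_of_descent e

end Groth.Agent.Const38.HomDS
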