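import Groth.Agent.Const38.HomDS.Glue
import Groth.Agent.S1488

/-!
Properties of the scheme of homomorphisms from a diagonalisable group to a smooth affine group.
-/

set_option autoImplicit false
set_option backward.isDefEq.respectTransparency false
set_option backward.isDefEq.respectTransparency.types false
set_option linter.style.haveILetI false
set_option linter.unusedSectionVars false
set_option maxSynthPendingDepth 5
universe u

open CategoryTheory MonoidalCategory CartesianMonoidalCategory MonObj GrpObj AlgebraicGeometry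
open CategoryTheory.Limits
open TensorProduct WithConv

noncomputable section

namespace Groth.Agent.Const38.HomDS

open RedPts82

variable {k : Type u} [CommRing k] {C : Type u} [CommRing C] [HopfAlgebra k C] {G : Type} [CommGroup G]
  {H : Over (Spec (CommRingCat.of k))} [GrpObj H]
  {ψD : Hopf.sp k (MonoidAlgebra k G) ≅ H} [IsMonHom ψD.hom]
  {Q : Over (Spec (CommRingCat.of k))} [GrpObj Q] {ψ : Hopf.sp k C ≅ Q} [IsMonHom ψ.hom]
  {m : Model k C} [Algebra.FinitePresentation k C] (𝔊 : Glued ψD ψ m)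

instance (W : Finset G) : IsOpenImmersion (𝔊.inj W).left := 𝔊.isOpen W

theorem locallyOfFinitePresentation_glued : LocallyOfFinitePresentation 𝔊.A.hom := by
  classical
  let 𝒰 : Scheme.OpenCover 𝔊.A.left :=
    Scheme.Cover.mkOfCovers (Finset G) (fun W => (XW m W).left) (fun W => (𝔊.inj W).left) 𝔊.cover
  refine IsZariskiLocalAtSource.of_openCover (P := @LocallyOfFinitePresentation) 𝒰 fun W => ?_
  show LocallyOfFinitePresentation ((𝔊.inj W).left ≫ 𝔊.A.hom)
  rw [Over.w (𝔊.inj W)]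
  have h1 : LocallyOfFinitePresentation (VecGrp.pt k (chart m W).R).hom := by
    show LocallyOfFinitePresentation (Spec.map (CommRingCat.ofHom (algebraMap k (chart m W).R)))
    rw [HasRingHomProperty.Spec_iff (P := @LocallyOfFinitePresentation)]
    haveI := (chart m W).fp
    exact RingHom.finitePresentation_algebraMap.2 inferInstance
  show LocallyOfFinitePresentation ((OW m W).ι ≫ (VecGrp.pt k (chart m W).R).hom)
  infer_instance

theorem exists_chart_mem_pair (x y : 𝔊.A.left) : ∃ W x' y', (𝔊.inj W).left x' = x ∧ (𝔊.inj W).left y' = y := by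
  classical
  obtain ⟨W₁, x', hx⟩ := 𝔊.cover x
  obtain ⟨W₂, y', hy⟩ := 𝔊.cover y
  refine ⟨W₁ ∪ W₂, (tr m Finset.subset_union_left).left x', (tr m Finset.subset_union_right).left y', ?_, ?_⟩
  · rw [← hx, ← 𝔊.tr_ι W₁ (W₁ ∪ W₂) Finset.subset_union_left]; rfl
  · rw [← hy, ← 𝔊.tr_ι W₂ (W₁ ∪ W₂) Finset.subset_union_right]; rfl

theorem isSeparated_glued : IsSeparated 𝔊.A.hom := by
  classical
  constructor
  refine IsClosedImmersion.of_isPreimmersion _ (closure_subset_iff_isClosed.1 fun z hz => ?_)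
  obtain ⟨W, x', y', hx, hy⟩ := exists_chart_mem_pair 𝔊 (pullback.fst 𝔊.A.hom 𝔊.A.hom z)
    (pullback.snd 𝔊.A.hom 𝔊.A.hom z)
  let mu : pullback (XW m W).hom (XW m W).hom ⟶ pullback 𝔊.A.hom 𝔊.A.hom :=
    pullback.map _ _ _ _ (𝔊.inj W).left (𝔊.inj W).left (𝟙 _) (by simp) (by simp)
  obtain ⟨z', rfl⟩ : z ∈ Set.range mu := by
    rw [Scheme.Pullback.range_map]
    exact ⟨⟨x', hx⟩, ⟨y', hy⟩⟩
  haveI : IsSeparated (XW m W).hom := by
    show IsSeparated ((OW m W).ι ≫ (VecGrp.pt k (chart m W).R).hom)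
    haveI : IsSeparated (VecGrp.pt k (chart m W).R).hom :=
      inferInstanceAs (IsSeparated (Spec.map (CommRingCat.ofHom (algebraMap k (chart m W).R))))
    infer_instance
  have hμ : IsOpenImmersion mu := inferInstance
  have hd : (pullback.diagonal (XW m W).hom) ≫ mu = (𝔊.inj W).left ≫ pullback.diagonal 𝔊.A.hom := by
    apply pullback.hom_ext <;> simp [mu]
  have hcl : IsClosed (Set.range (pullback.diagonal (XW m W).hom)) :=
    (pullback.diagonal (XW m W).hom).isClosedEmbedding.isClosed_range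
  have hpre : mu ⁻¹' Set.range (pullback.diagonal 𝔊.A.hom) ⊆ Set.range (pullback.diagonal (XW m W).hom) := by
    rintro w ⟨a, ha⟩
    have h1 : (pullback.fst 𝔊.A.hom 𝔊.A.hom) (mu w) = a := by
      rw [← ha, ← Scheme.Hom.comp_apply, pullback.diagonal_fst]; rfl
    have h2 : (𝔊.inj W).left ((pullback.fst (XW m W).hom (XW m W).hom) w) = a := by
      rw [← h1, ← Scheme.Hom.comp_apply, ← Scheme.Hom.comp_apply]
      congr 2
      simp [mu]
    refine ⟨(pullback.fst (XW m W).hom (XW m W).hom) w, mu.isOpenEmbedding.injective ?_⟩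
    rw [← Scheme.Hom.comp_apply, hd, Scheme.Hom.comp_apply, h2, ha]
  have hz' : z' ∈ closure (mu ⁻¹' Set.range (pullback.diagonal 𝔊.A.hom)) := by
    rw [← mu.isOpenEmbedding.isOpenMap.preimage_closure_eq_closure_preimage mu.continuous]
    exact hz
  obtain ⟨w, hw⟩ := (hcl.closure_subset_iff.2 hpre) hz'
  exact ⟨(𝔊.inj W).left w, by rw [← hw, ← Scheme.Hom.comp_apply, ← hd]; rfl⟩

theorem isIndQuasiAffineHom_glued : MoreMor.IsIndQuasiAffineHom 𝔊.A.hom := by
  classical
  intro V _ U hU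
  let j : (U : Scheme.{u}) ⟶ 𝔊.A.left := U.ι ≫ (𝔊.A.hom ⁻¹ᵁ V).ι
  haveI : CompactSpace ↥(U : Scheme.{u}) := isCompact_iff_compactSpace.mp hU
  have hK : IsCompact (Set.range j) := isCompact_range j.continuous
  obtain ⟨W, hW⟩ : ∃ W, Set.range j ⊆ Set.range (𝔊.inj W).left := by
    refine hK.elim_directed_cover (fun W => Set.range (𝔊.inj W).left) (fun W => (𝔊.inj W).left.opensRange.2)
      (fun x _ => Set.mem_iUnion.2 (by obtain ⟨W, y, hy⟩ := 𝔊.cover x; exact ⟨W, y, hy⟩))
      fun W W' => ⟨W ∪ W', ?_, ?_⟩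
    · show Set.range (𝔊.inj W).left ⊆ Set.range (𝔊.inj (W ∪ W')).left
      conv_lhs => rw [← 𝔊.tr_ι W (W ∪ W') Finset.subset_union_left]
      rintro _ ⟨q, rfl⟩
      exact ⟨_, rfl⟩
    · show Set.range (𝔊.inj W').left ⊆ Set.range (𝔊.inj (W ∪ W')).left
      conv_lhs => rw [← 𝔊.tr_ι W' (W ∪ W') Finset.subset_union_right]
      rintro _ ⟨q, rfl⟩
      exact ⟨_, rfl⟩
  let l : (U : Scheme.{u}) ⟶ (XW m W).left := IsOpenImmersion.lift (𝔊.inj W).left j hW
  haveI : IsOpenImmersion (l ≫ (𝔊.inj W).left) := by rw [IsOpenImmersion.lift_fac]; infer_instance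
  haveI : IsOpenImmersion l := IsOpenImmersion.of_comp l (𝔊.inj W).left
  haveI : IsAffine (VecGrp.pt k (chart m W).R).left := inferInstanceAs (IsAffine (Spec (CommRingCat.of _)))
  exact Scheme.IsQuasiAffine.of_isImmersion (l ≫ (inc m W).left)

theorem smooth_glued [Smooth Q.hom] (hH : IsMultType H) : Smooth 𝔊.A.hom := by
  refine (Groth.Agent.S1488.result 𝔊.A.hom).2 ⟨locallyOfFinitePresentation_glued 𝔊, ?_⟩
  intro A _ I hI a b hab
  let T : Over (Spec (CommRingCat.of k)) := Over.mk b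
  haveI : IsAffine T.left := inferInstanceAs (IsAffine (Spec (CommRingCat.of A)))
  let e : A ≃+* Gam T := (Scheme.ΓSpecIso (CommRingCat.of A)).commRingCatIsoToRingEquiv.symm
  let J : Ideal (Gam T) := I.map e.toRingHom
  have hJ : J * J = ⊥ := by
    show I.map e.toRingHom * I.map e.toRingHom = ⊥
    rw [← Ideal.map_mul, ← pow_two, hI, Ideal.map_bot]
  let u : A ⧸ I ≃+* Gam T ⧸ J := Ideal.quotientEquiv I J e rfl
  let v : Spec (CommRingCat.of (Gam T ⧸ J)) ⟶ Spec (CommRingCat.of (A ⧸ I)) :=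
    Spec.map (CommRingCat.ofHom u.toRingHom)
  haveI : IsIso v := by
    haveI : IsIso (CommRingCat.ofHom u.toRingHom) := (ConcreteCategory.isIso_iff_bijective _).mpr u.bijective
    infer_instance
  have hv : v ≫ Spec.map (CommRingCat.ofHom (Ideal.Quotient.mk I)) = (redMap T J).left := by
    show _ = Spec.map (CommRingCat.ofHom (Ideal.Quotient.mk J)) ≫ (Spec (CommRingCat.of A)).isoSpec.inv
    rw [Scheme.isoSpec_Spec_inv]
    simp only [v, ← Spec.map_comp]
    rfl
  let a' : redObj T J ⟶ 𝔊.A := Over.homMk (v ≫ a) (by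
    show (v ≫ a) ≫ 𝔊.A.hom = (redMap T J).left ≫ b
    rw [Category.assoc, ← hab, ← hv, Category.assoc])
  let f₀ : redObj T J ⊗ H ⟶ Q := (β_ _ _).hom ≫ (H ◁ a') ≫ 𝔊.υ
  have hf₀ : IsRelMul f₀ := fun Z x g g' => by
    simp only [f₀, ← Category.assoc, lift_braiding_hom]
    simp only [Category.assoc, lift_whiskerLeft_assoc]
    exact 𝔊.rep.1 Z g g' (x ≫ a')
  obtain ⟨f, hf, hfm⟩ := exists_hom_lift_sq hH T hJ f₀ hf₀
  have hfam : AutFam.IsHomFamily H Q ((β_ _ _).hom ≫ f) := fun Z g g' x => by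
    simp only [← Category.assoc, lift_braiding_hom]
    exact hfm Z x g g'
  obtain ⟨l, hl, -⟩ := 𝔊.rep.2 T _ hfam
  have hla : redMap T J ≫ l = a' := by
    refine (𝔊.rep.2 _ _ (isHomFamily_precomp H Q a' 𝔊.rep.1)).unique ?_ rfl
    rw [MonoidalCategory.whiskerLeft_comp, Category.assoc, hl, ← Category.assoc,
      BraidedCategory.braiding_naturality_right, Category.assoc, hf]
    simp only [f₀, SymmetricCategory.symmetry_assoc]
  refine ⟨l.left, ?_, Over.w l⟩
  rw [← cancel_epi v, ← Category.assoc, hv]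
  exact congrArg (fun q => q.left) hla

end Groth.Agent.Const38.HomDS
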