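import Groth.Agent.Const38.HomDS.Props
import Groth.Agent.RedPts82.DSImage

/-!
Homomorphisms from a diagonalisable group to a smooth affine group over an affine base.
-/

set_option autoImplicit false
set_option backward.isDefEq.respectTransparency false
set_option backward.isDefEq.respectTransparency.types false
set_option linter.style.haveILetI false
set_option maxSynthPendingDepth 5
universe u

open CategoryTheory MonoidalCategory CartesianMonoidalCategory MonObj GrpObj AlgebraicGeometry
open CategoryTheory.Limits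

noncomputable section

namespace Groth.Agent.Const38.HomDS

open RedPts82

theorem isMultType_DS (S : Scheme.{u}) (M : Type) [AddCommGroup M] : IsMultType (Red.DS S M) :=
  ⟨S, 𝟙 S, inferInstance, inferInstance, fun V hV => ⟨V, hV.isCompact, by simp⟩, fun z =>
    ⟨⊤, trivial, M, inferInstance, by
      obtain ⟨a, ha, hi, -⟩ := exists_ds_bc ((⊤ : S.Opens).ι ≫ 𝟙 S) M
      exact ⟨(Grp.mkIso' (asIso a)).symm⟩⟩⟩

/-- The scheme of homomorphisms from a diagonalisable group to a smooth affine group over an affine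
base. -/
theorem exists_hom_DS {k : Type u} [CommRing k] (M : Type) [AddCommGroup M]
    (Q : Over (Spec (CommRingCat.of k))) [GrpObj Q] [Smooth Q.hom] [IsAffineHom Q.hom] :
    ∃ (A : Over (Spec (CommRingCat.of k))) (υ : Red.DS (Spec (CommRingCat.of k)) M ⊗ A ⟶ Q),
      AutFam.RepresentsHom (Red.DS (Spec (CommRingCat.of k)) M) Q A υ ∧ Smooth A.hom ∧ IsSeparated A.hom ∧
        MoreMor.IsIndQuasiAffineHom A.hom := by
  haveI : IsAffine Q.left := isAffine_of_isAffineHom Q.hom
  obtain ⟨C, _, _, ψ, _⟩ := Hopf.exists_coord (k := k) Q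
  obtain ⟨ψD, _⟩ := Hopf.exists_coord_DS k M
  haveI : IsIso ψ.hom.left := inferInstanceAs (IsIso ((Over.forget _).map ψ.hom))
  haveI : Smooth (Spec.map (CommRingCat.ofHom (algebraMap k C))) := by
    rw [show Spec.map (CommRingCat.ofHom (algebraMap k C)) = ψ.hom.left ≫ Q.hom from (Over.w ψ.hom).symm]
    infer_instance
  haveI : Algebra.Smooth k C := by
    have h := (HasRingHomProperty.Spec_iff (P := @Smooth)).1 ‹Smooth (Spec.map (CommRingCat.ofHom (algebraMap k C)))›
    exact RingHom.smooth_algebraMap.1 h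
  obtain ⟨m⟩ := exists_model k C
  obtain ⟨𝔊⟩ := nonempty_glued ψD ψ m
  exact ⟨𝔊.A, 𝔊.υ, 𝔊.rep, smooth_glued 𝔊 (isMultType_DS _ M), isSeparated_glued 𝔊, isIndQuasiAffineHom_glued 𝔊⟩

end Groth.Agent.Const38.HomDS
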