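import Groth.Agent.Const38.HomDS.Model
import Mathlib.RingTheory.HopfAlgebra.Convolution

/-!
Homomorphisms from a diagonalisable group to an affine group, in coordinates: the open condition that
the weights lie in a given finite set, and the rings classifying bounded supports.
-/

set_option autoImplicit false
set_option backward.isDefEq.respectTransparency false
set_option backward.isDefEq.respectTransparency.types false
set_option linter.style.haveILetI false
set_option maxSynthPendingDepth 5
universe u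

open TensorProduct WithConv

noncomputable section

namespace Groth.Agent.Const38.HomDS

/-- The group algebra. -/
abbrev MA (B : Type u) [CommRing B] (G : Type) : Type u := MonoidAlgebra B G

variable {k C : Type u} [CommRing k] [CommRing C] [Bialgebra k C] {G : Type} [CommGroup G]
variable {B B' : Type u} [CommRing B] [Algebra k B] [CommRing B'] [Algebra k B']

variable (k G B) in
/-- The first projection. -/
def i1 : MA B G →ₐ[k] MA (MA B G) G :=
  MonoidAlgebra.mapAlgHom G (MonoidAlgebra.singleOneAlgHom : B →ₐ[k] MA B G)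

variable (k G B) in
/-- The second projection. -/
def i2 : MA B G →ₐ[k] MA (MA B G) G := MonoidAlgebra.singleOneAlgHom

variable (k G B) in
/-- The multiplication. -/
def dd : MA B G →ₐ[k] MA (MA B G) G :=
  MonoidAlgebra.liftNCAlgHom
    ((MonoidAlgebra.singleOneAlgHom : MA B G →ₐ[k] MA (MA B G) G).comp MonoidAlgebra.singleOneAlgHom)
    { toFun := fun g => MonoidAlgebra.single g (MonoidAlgebra.single g 1)
      map_one' := rfl
      map_mul' := fun a b => by simp }
    (fun _ _ => Commute.all _ _)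

theorem i1_single (g : G) (r : B) :
    i1 k G B (MonoidAlgebra.single g r) = MonoidAlgebra.single g (MonoidAlgebra.single 1 r) := by
  simp [i1]

theorem i2_apply (x : MA B G) : i2 k G B x = MonoidAlgebra.single 1 x := rfl

theorem dd_single (g : G) (r : B) :
    dd k G B (MonoidAlgebra.single g r) = MonoidAlgebra.single g (MonoidAlgebra.single g r) := by
  simp [dd]

/-- The condition of being a homomorphism. -/
def IsHom (φ : C →ₐ[k] MA B G) : Prop :=
  toConv ((i1 k G B).comp φ) * toConv ((i2 k G B).comp φ) = toConv ((dd k G B).comp φ)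

/-- Change of coefficients. -/
def push (f : B →ₐ[k] B') (φ : C →ₐ[k] MA B G) : C →ₐ[k] MA B' G := (MonoidAlgebra.mapAlgHom G f).comp φ

/-- The coefficients. -/
def cf (φ : C →ₐ[k] MA B G) (g : G) (x : C) : B := (φ x).coeff g

theorem cf_push (f : B →ₐ[k] B') (φ : C →ₐ[k] MA B G) (g : G) (x : C) : cf (push f φ) g x = f (cf φ g x) := by
  simp [cf, push, MonoidAlgebra.coeff_mapAlgHom]

theorem coeff_i1_mul_i2 (P Q : MA B G) (a b : G) :
    ((i1 k G B P * i2 k G B Q).coeff a).coeff b = P.coeff a * Q.coeff b := by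
  classical
  induction P using MonoidAlgebra.induction_linear with
  | zero => simp
  | add P P' hP hP' => simp [add_mul, hP, hP']
  | single g r =>
    rw [i1_single, i2_apply, MonoidAlgebra.single_mul_single, _root_.mul_one, MonoidAlgebra.coeff_single_apply,
      MonoidAlgebra.coeff_single_apply]
    split_ifs
    · exact MonoidAlgebra.coeff_single_one_mul Q r b
    · simp

theorem coeff_dd [DecidableEq G] (P : MA B G) (a b : G) :
    ((dd k G B P).coeff a).coeff b = if a = b then P.coeff a else 0 := by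
  induction P using MonoidAlgebra.induction_linear with
  | zero => simp
  | add P P' hP hP' => simp only [map_add, MonoidAlgebra.coeff_add, Finsupp.add_apply, hP, hP']; split_ifs <;> simp
  | single g r =>
    rw [dd_single, MonoidAlgebra.coeff_single_apply, MonoidAlgebra.coeff_single_apply]
    by_cases hg : g = a
    · subst hg
      simp [MonoidAlgebra.coeff_single_apply, Finsupp.single_apply]
    · simp [hg]

variable (G B) in
/-- The double coefficients of a convolution. -/
theorem coeff_convMul (φ : C →ₐ[k] MA B G) {ι : Type*} (s : Finset ι) (p q : ι → C) (x : C)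
    (hx : CoalgebraStruct.comul (R := k) x = ∑ l ∈ s, p l ⊗ₜ[k] q l) (a b : G) :
    (((toConv ((i1 k G B).comp φ) * toConv ((i2 k G B).comp φ)).ofConv x).coeff a).coeff b =
      ∑ l ∈ s, cf φ a (p l) * cf φ b (q l) := by
  simp only [AlgHom.convMul_apply, hx, map_sum, MonoidAlgebra.coeff_sum, Finsupp.coe_finsetSum, Finset.sum_apply]
  refine Finset.sum_congr rfl fun l _ => ?_
  simp [cf, coeff_i1_mul_i2]

variable (m : Model k C)

/-- The matrix of a coefficient. -/
def mat (φ : C →ₐ[k] MA B G) (g : G) : Matrix (Fin m.n) (Fin m.n) B := Matrix.of fun i l => cf φ g (m.a i l)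

/-- The determinant whose invertibility forces a coefficient to vanish. -/
def detg (φ : C →ₐ[k] MA B G) (g : G) : B := (1 - mat m φ g).det

theorem mat_push (f : B →ₐ[k] B') (φ : C →ₐ[k] MA B G) (g : G) :
    mat m (push f φ) g = (mat m φ g).map f := by
  ext i l
  simp [mat, cf_push]

theorem detg_push (f : B →ₐ[k] B') (φ : C →ₐ[k] MA B G) (g : G) : detg m (push f φ) g = f (detg m φ g) := by
  rw [detg, detg, AlgHom.map_det, map_sub, map_one, AlgHom.mapMatrix_apply, mat_push]

/-- A finite set outside of which the matrices vanish. -/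
def wts (φ : C →ₐ[k] MA B G) : Finset G := by
  classical
  exact Finset.univ.biUnion fun i => Finset.univ.biUnion fun l => (φ (m.a i l)).coeff.support

theorem detg_eq_one (φ : C →ₐ[k] MA B G) {g : G} (hg : g ∉ wts m φ) : detg m φ g = 1 := by
  classical
  have : mat m φ g = 0 := by
    ext i l
    simp only [wts, Finset.mem_biUnion, Finset.mem_univ, true_and, not_exists, Finsupp.mem_support_iff,
      not_not] at hg
    exact hg i l
  rw [detg, this, sub_zero, Matrix.det_one]

theorem mulVec_eq (φ : C →ₐ[k] MA B G) (hφ : IsHom φ) (g : G) :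
    (mat m φ g).mulVec (fun l => cf φ g (m.x l)) = fun i => cf φ g (m.x i) := by
  classical
  funext i
  have h := coeff_convMul G B φ Finset.univ m.x (m.a i) (m.x i) (m.comul_x i) g g
  rw [hφ] at h
  have h' : (((toConv ((dd k G B).comp φ)).ofConv (m.x i)).coeff g).coeff g = cf φ g (m.x i) := by
    simp [cf, coeff_dd]
  rw [h'] at h
  rw [h, Matrix.mulVec, dotProduct]
  exact Finset.sum_congr rfl fun l _ => mul_comm _ _

/-- The weights at a prime lie in a given set. -/
def Good (φ : C →ₐ[k] MA B G) (W : Finset G) (p : PrimeSpectrum B) : Prop :=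
  ∀ g, g ∉ W → detg m φ g ∉ p.asIdeal

theorem good_push_iff (f : B →ₐ[k] B') (φ : C →ₐ[k] MA B G) (W : Finset G) (p : PrimeSpectrum B') :
    Good m (push f φ) W p ↔ Good m φ W (PrimeSpectrum.comap f.toRingHom p) :=
  forall₂_congr fun g _ => by rw [detg_push]; exact Iff.rfl

theorem good_mono {φ : C →ₐ[k] MA B G} {W W' : Finset G} (h : W ⊆ W') {p : PrimeSpectrum B}
    (hp : Good m φ W p) : Good m φ W' p :=
  fun g hg => hp g fun hW => hg (h hW)

theorem good_wts (φ : C →ₐ[k] MA B G) (p : PrimeSpectrum B) : Good m φ (wts m φ) p := fun g hg => by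
  rw [detg_eq_one m φ hg]
  exact fun h => p.isPrime.ne_top ((Ideal.eq_top_iff_one _).2 h)

theorem isOpen_good (φ : C →ₐ[k] MA B G) (W : Finset G) : IsOpen {p | Good m φ W p} := by
  classical
  have : {p | Good m φ W p} = ⋂ g ∈ wts m φ \ W, (PrimeSpectrum.basicOpen (detg m φ g) : Set (PrimeSpectrum B)) := by
    ext p
    simp only [Set.mem_ofPred_eq, Set.mem_iInter, SetLike.mem_coe, PrimeSpectrum.mem_basicOpen, Finset.mem_sdiff]
    refine ⟨fun h g hg => h g hg.2, fun h g hg => ?_⟩
    by_cases hw : g ∈ wts m φ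
    · exact h g ⟨hw, hg⟩
    · exact good_wts m φ p g hw
  rw [this]
  exact isOpen_biInter_finset fun g _ => (PrimeSpectrum.basicOpen (detg m φ g)).2

theorem cf_eq_zero_of_good (φ : C →ₐ[k] MA B G) (hφ : IsHom φ) (W : Finset G) (h : ∀ p, Good m φ W p)
    {g : G} (hg : g ∉ W) (i : Fin m.n) : cf φ g (m.x i) = 0 := by
  classical
  have hu : IsUnit (1 - mat m φ g).det := by
    by_contra hu
    obtain ⟨I, hI, hdI⟩ := exists_max_ideal_of_mem_nonunits hu
    exact h ⟨I, hI.isPrime⟩ g hg hdI
  have h0 : (1 - mat m φ g).mulVec (fun l => cf φ g (m.x l)) = 0 := by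
    rw [Matrix.sub_mulVec, Matrix.one_mulVec, mulVec_eq m φ hφ, sub_self]
  have := congrArg ((1 - mat m φ g)⁻¹.mulVec) h0
  rw [Matrix.mulVec_mulVec, Matrix.nonsing_inv_mul _ hu, Matrix.one_mulVec, Matrix.mulVec_zero] at this
  exact congrFun this i

theorem isHom_push (f : B →ₐ[k] B') {φ : C →ₐ[k] MA B G} (hφ : IsHom φ) : IsHom (push f φ) := by
  let F : MA (MA B G) G →ₐ[k] MA (MA B' G) G := MonoidAlgebra.mapAlgHom G (MonoidAlgebra.mapAlgHom G f)
  have e1 : (i1 k G B').comp (MonoidAlgebra.mapAlgHom G f) = F.comp (i1 k G B) := by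
    refine AlgHom.ext fun x => ?_
    induction x using MonoidAlgebra.induction_linear with
    | zero => simp
    | add a b ha hb => simp only [map_add, ha, hb]
    | single g r => simp [F, i1_single]
  have e2 : (i2 k G B').comp (MonoidAlgebra.mapAlgHom G f) = F.comp (i2 k G B) := by
    refine AlgHom.ext fun x => ?_
    simp [F, i2_apply]
  have e3 : (dd k G B').comp (MonoidAlgebra.mapAlgHom G f) = F.comp (dd k G B) := by
    refine AlgHom.ext fun x => ?_
    induction x using MonoidAlgebra.induction_linear with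
    | zero => simp
    | add a b ha hb => simp only [map_add, ha, hb]
    | single g r => simp [F, dd_single]
  unfold IsHom push
  rw [← AlgHom.comp_assoc, ← AlgHom.comp_assoc, ← AlgHom.comp_assoc, e1, e2, e3, AlgHom.comp_assoc,
    AlgHom.comp_assoc, AlgHom.comp_assoc]
  have := congrArg (fun w : WithConv (C →ₐ[k] MA (MA B G) G) => toConv (F.comp w.ofConv)) hφ
  simp only [AlgHom.comp_convMul_distrib, ofConv_toConv, toConv_ofConv] at this
  exact this

include m in
theorem algHom_ext_of_model {D : Type u} [CommRing D] [Algebra k D] {φ ψ : C →ₐ[k] D}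
    (h : ∀ i, φ (m.x i) = ψ (m.x i)) : φ = ψ :=
  AlgHom.ext_of_adjoin_eq_top m.adjoin_eq (by rintro _ ⟨i, rfl⟩; exact h i)

/-- The rings classifying homomorphisms with supports in a finite set. -/
theorem exists_chartRing [Algebra.FinitePresentation k C] (W : Finset G) :
    ∃ (R : Type u) (_ : CommRing R) (_ : Algebra k R) (φ : C →ₐ[k] MA R G),
      Algebra.FinitePresentation k R ∧ IsHom φ ∧ (∀ g, g ∉ W → ∀ i, cf φ g (m.x i) = 0) ∧
      ∀ (B : Type u) [CommRing B] [Algebra k B] (ψ : C →ₐ[k] MA B G), IsHom ψ →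
        (∀ g, g ∉ W → ∀ i, cf ψ g (m.x i) = 0) → ∃! f : R →ₐ[k] B, push f φ = ψ := by
  classical
  let Φ : MvPolynomial (Fin m.n) k →ₐ[k] MA (MvPolynomial (Fin m.n × W) k) G :=
    MvPolynomial.aeval fun i => ∑ g : W, MonoidAlgebra.single (g : G) (MvPolynomial.X (i, g) : (MvPolynomial (Fin m.n × W) k))
  let π : MvPolynomial (Fin m.n) k →ₐ[k] C := MvPolynomial.aeval m.x
  have hπ : Function.Surjective π := by
    rw [← AlgHom.range_eq_top, ← Algebra.adjoin_range_eq_range_aeval, m.adjoin_eq]
  obtain ⟨s, hs⟩ := Algebra.FinitePresentation.ker_fG_of_surjective π hπ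
  -- first quotient
  let S1 : Finset (MvPolynomial (Fin m.n × W) k) := s.biUnion fun r => (Φ r).coeff.support.image fun g => (Φ r).coeff g
  let I1 : Ideal (MvPolynomial (Fin m.n × W) k) := Ideal.span (S1 : Set (MvPolynomial (Fin m.n × W) k))
  let q1 : (MvPolynomial (Fin m.n × W) k) →ₐ[k] (MvPolynomial (Fin m.n × W) k) ⧸ I1 := Ideal.Quotient.mkₐ k I1
  have hker : RingHom.ker π.toRingHom ≤ RingHom.ker ((MonoidAlgebra.mapAlgHom G q1).comp Φ).toRingHom := by
    rw [show RingHom.ker π.toRingHom = Ideal.span (s : Set _) from hs.symm, Ideal.span_le]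
    intro r hr
    refine RingHom.mem_ker.2 (MonoidAlgebra.coeff_injective (Finsupp.ext fun g => ?_))
    simp only [AlgHom.toRingHom_eq_coe, RingHom.coe_coe, AlgHom.comp_apply, MonoidAlgebra.coeff_mapAlgHom,
      MonoidAlgebra.coeff_zero, Finsupp.coe_zero, Pi.zero_apply]
    by_cases hg : g ∈ (Φ r).coeff.support
    · exact (Ideal.Quotient.eq_zero_iff_mem.2 (Ideal.subset_span (by
        show _ ∈ S1
        exact Finset.mem_biUnion.2 ⟨r, hr, Finset.mem_image.2 ⟨g, hg, rfl⟩⟩)) :)
    · rw [show (Φ r).coeff g = 0 from Finsupp.notMem_support_iff.1 hg, map_zero]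
  let φ1 : C →ₐ[k] MA ((MvPolynomial (Fin m.n × W) k) ⧸ I1) G := AlgHom.liftOfSurjective π hπ _ hker
  have hφ1 : ∀ r, φ1 (π r) = MonoidAlgebra.mapAlgHom G q1 (Φ r) := fun r => AlgHom.liftOfSurjective_apply _ _ _ _ r
  -- second quotient
  let df : Fin m.n → MA (MA ((MvPolynomial (Fin m.n × W) k) ⧸ I1) G) G := fun i =>
    (toConv ((i1 k G _).comp φ1) * toConv ((i2 k G _).comp φ1)).ofConv (m.x i) - dd k G _ (φ1 (m.x i))
  let S2 : Finset ((MvPolynomial (Fin m.n × W) k) ⧸ I1) := Finset.univ.biUnion fun i => (df i).coeff.support.biUnion fun a =>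
    ((df i).coeff a).coeff.support.image fun b => ((df i).coeff a).coeff b
  let I2 : Ideal ((MvPolynomial (Fin m.n × W) k) ⧸ I1) := Ideal.span (S2 : Set ((MvPolynomial (Fin m.n × W) k) ⧸ I1))
  let q2 : (MvPolynomial (Fin m.n × W) k) ⧸ I1 →ₐ[k] ((MvPolynomial (Fin m.n × W) k) ⧸ I1) ⧸ I2 := Ideal.Quotient.mkₐ k I2
  let φ : C →ₐ[k] MA (((MvPolynomial (Fin m.n × W) k) ⧸ I1) ⧸ I2) G := push q2 φ1
  have hfp1 : Algebra.FinitePresentation k ((MvPolynomial (Fin m.n × W) k) ⧸ I1) :=
    Algebra.FinitePresentation.quotient ⟨S1, rfl⟩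
  have hsupp1 : ∀ i g, cf φ1 g (m.x i) = if hg : g ∈ W then q1 (MvPolynomial.X (i, ⟨g, hg⟩)) else 0 := fun i g => by
    have : m.x i = π (MvPolynomial.X i) := by simp [π]
    rw [cf, this, hφ1]
    simp only [Φ, MvPolynomial.aeval_X, map_sum, MonoidAlgebra.mapAlgHom_single, MonoidAlgebra.coeff_sum,
      Finsupp.coe_finsetSum, Finset.sum_apply, MonoidAlgebra.coeff_single_apply]
    split_ifs with hg
    · rw [Finset.sum_eq_single ⟨g, hg⟩]
      · simp
      · exact fun b _ hb => if_neg fun h => hb (Subtype.ext h)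
      · simp
    · exact Finset.sum_eq_zero fun b _ => if_neg fun h => hg (by rw [← h]; exact b.2)
  have hsupp : ∀ g, g ∉ W → ∀ i, cf φ g (m.x i) = 0 := fun g hg i => by
    rw [cf_push, hsupp1, dif_neg hg, map_zero]
  have hconv : ∀ (D : Type u) [CommRing D] [Algebra k D] (f : (MvPolynomial (Fin m.n × W) k) ⧸ I1 →ₐ[k] D) (i : Fin m.n) (a b : G),
      (((toConv ((i1 k G D).comp (push f φ1)) * toConv ((i2 k G D).comp (push f φ1))).ofConv (m.x i)).coeff a).coeff b -
        ((dd k G D (push f φ1 (m.x i))).coeff a).coeff b = f (((df i).coeff a).coeff b) := fun D _ _ f i a b => by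
    simp only [df, MonoidAlgebra.coeff_sub, Finsupp.sub_apply, map_sub]
    rw [coeff_convMul G D (push f φ1) Finset.univ m.x (m.a i) (m.x i) (m.comul_x i),
      coeff_convMul G _ φ1 Finset.univ m.x (m.a i) (m.x i) (m.comul_x i), map_sum, coeff_dd, coeff_dd]
    simp only [cf_push, map_mul]
    congr 1
    split_ifs
    · exact cf_push f φ1 a (m.x i)
    · rw [map_zero]
  have hhom : IsHom φ := WithConv.ofConv_injective (algHom_ext_of_model m fun i => by
    refine MonoidAlgebra.coeff_injective (Finsupp.ext fun a => MonoidAlgebra.coeff_injective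
      (Finsupp.ext fun b => sub_eq_zero.1 ?_))
    refine (hconv _ q2 i a b).trans ?_
    by_cases hb : b ∈ ((df i).coeff a).coeff.support
    · refine Ideal.Quotient.eq_zero_iff_mem.2 (Ideal.subset_span ?_)
      simp only [S2, Finset.coe_biUnion, Set.mem_iUnion, Finset.coe_image, Set.mem_image]
      exact ⟨i, Finset.mem_univ i, a, Finsupp.mem_support_iff.2 fun h => by simp [h] at hb, b, hb, rfl⟩
    · rw [Finsupp.notMem_support_iff.1 hb, map_zero])
  refine ⟨_, inferInstance, inferInstance, φ, Algebra.FinitePresentation.quotient ⟨S2, rfl⟩, hhom, hsupp, ?_⟩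
  intro B _ _ ψ hψ hψW
  let f0 : (MvPolynomial (Fin m.n × W) k) →ₐ[k] B := MvPolynomial.aeval fun p => cf ψ (p.2 : G) (m.x p.1)
  have hf0 : (MonoidAlgebra.mapAlgHom G f0).comp Φ = ψ.comp π := by
    refine MvPolynomial.algHom_ext fun i => ?_
    simp only [AlgHom.comp_apply, Φ, π, MvPolynomial.aeval_X, map_sum, MonoidAlgebra.mapAlgHom_single, f0]
    refine MonoidAlgebra.coeff_injective (Finsupp.ext fun g => ?_)
    simp only [MonoidAlgebra.coeff_sum, Finsupp.coe_finsetSum, Finset.sum_apply, MonoidAlgebra.coeff_single_apply]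
    by_cases hg : g ∈ W
    · rw [Finset.sum_eq_single ⟨g, hg⟩]
      · simp only [MvPolynomial.aeval_X, if_pos]
        rfl
      · exact fun b _ hb => if_neg fun h => hb (Subtype.ext h)
      · simp
    · rw [Finset.sum_eq_zero fun b _ => if_neg fun h => hg (by rw [← h]; exact b.2)]
      exact (hψW g hg i).symm
  have hI1 : ∀ a ∈ I1, f0 a = 0 := fun a ha => by
    refine (RingHom.mem_ker (f := f0.toRingHom)).1 ((Ideal.span_le.2 ?_) ha)
    intro y hy
    simp only [S1, Finset.coe_biUnion, Set.mem_iUnion, Finset.coe_image, Set.mem_image] at hy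
    obtain ⟨r, hr, g, -, rfl⟩ := hy
    have h0 : π r = 0 := RingHom.mem_ker.1 (hs.le (Ideal.subset_span hr))
    have := congrArg (fun z => MonoidAlgebra.coeff z g) (AlgHom.congr_fun hf0 r)
    simpa [h0] using this
  let f1 : (MvPolynomial (Fin m.n × W) k) ⧸ I1 →ₐ[k] B := Ideal.Quotient.liftₐ I1 f0 hI1
  have hf1 : push f1 φ1 = ψ := algHom_ext_of_model m fun i => by
    refine MonoidAlgebra.coeff_injective (Finsupp.ext fun g => ?_)
    show cf (push f1 φ1) g (m.x i) = cf ψ g (m.x i)
    rw [cf_push, hsupp1]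
    split_ifs with hg
    · simp only [f1, q1, f0, Ideal.Quotient.mkₐ_eq_mk, Ideal.Quotient.liftₐ_apply, Ideal.Quotient.lift_mk]
      exact MvPolynomial.aeval_X _ _
    · rw [map_zero, hψW g hg i]
  have hI2 : ∀ a ∈ I2, f1 a = 0 := fun a ha => by
    refine (RingHom.mem_ker (f := f1.toRingHom)).1 ((Ideal.span_le.2 ?_) ha)
    intro y hy
    simp only [S2, Finset.coe_biUnion, Set.mem_iUnion, Finset.coe_image, Set.mem_image] at hy
    obtain ⟨i, -, a, -, b, -, rfl⟩ := hy
    have := hconv B f1 i a b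
    rw [hf1, hψ] at this
    show f1 _ = 0
    rw [← this]
    exact sub_self _
  refine ⟨Ideal.Quotient.liftₐ I2 f1 hI2, ?_, fun g hg => ?_⟩
  · show push (Ideal.Quotient.liftₐ I2 f1 hI2) (push q2 φ1) = ψ
    rw [← hf1]
    refine algHom_ext_of_model m fun i => MonoidAlgebra.coeff_injective (Finsupp.ext fun a => ?_)
    show cf (push _ (push q2 φ1)) a (m.x i) = cf (push f1 φ1) a (m.x i)
    simp [cf_push, q2]
  · refine Ideal.Quotient.algHom_ext k (Ideal.Quotient.algHom_ext k (MvPolynomial.algHom_ext fun p => ?_))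
    have h := congrArg (fun χ => cf χ (p.2 : G) (m.x p.1)) hg
    simp only [cf_push, φ, hsupp1, dif_pos p.2.2] at h
    refine Eq.trans (b := cf ψ (p.2 : G) (m.x p.1)) ?_ ?_
    · exact h
    · simp only [q2, f1, f0, AlgHom.comp_apply, Ideal.Quotient.mkₐ_eq_mk, Ideal.Quotient.liftₐ_apply, Ideal.Quotient.lift_mk]
      exact (MvPolynomial.aeval_X (R := k) (fun q : Fin m.n × W => cf ψ (q.2 : G) (m.x q.1)) p).symm

end Groth.Agent.Const38.HomDS
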